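import Mathlib
import Cfsg.Agent.Lib.Suzuki.Binary

/-!
# Binary coset actions: cores of elements, triangles, trivial intersection subgroups

`core H x` is the intersection of all conjugates of `H` containing `x`.
-/

set_option autoImplicit false

namespace CfsgLib.SL2.Binary

open CfsgLib.Suzuki (BinRep not_binRep)

variable {G : Type*} [Group G] {H : Subgroup G}

/-- `x` lies in some conjugate of `H`. -/
def InC (H : Subgroup G) (x : G) : Prop := ∃ k, k⁻¹ * x * k ∈ H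

/-- The intersection of the conjugates of `H` containing `x`. -/
def core (H : Subgroup G) (x : G) : Subgroup G where
  carrier := {g | ∀ k, k⁻¹ * x * k ∈ H → k⁻¹ * g * k ∈ H}
  mul_mem' {a b} ha hb k hk := by
    have := mul_mem (ha k hk) (hb k hk)
    rwa [show k⁻¹ * a * k * (k⁻¹ * b * k) = k⁻¹ * (a * b) * k by group] at this
  one_mem' k _ := by simp [one_mem]
  inv_mem' {a} ha k hk := by
    have := inv_mem (ha k hk)
    rwa [show (k⁻¹ * a * k)⁻¹ = k⁻¹ * a⁻¹ * k by group] at this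

theorem mem_core {x g : G} : g ∈ core H x ↔ ∀ k, k⁻¹ * x * k ∈ H → k⁻¹ * g * k ∈ H := Iff.rfl

theorem self_mem_core (x : G) : x ∈ core H x := fun _ hk => hk

theorem core_le_of_mem {x g : G} (hg : g ∈ core H x) : core H g ≤ core H x :=
  fun _ hz k hk => hz k (hg k hk)

theorem InC.of_mem_core {x g : G} (hx : InC H x) (hg : g ∈ core H x) : InC H g :=
  let ⟨k, hk⟩ := hx; ⟨k, hg k hk⟩

theorem InC.inv {x : G} (hx : InC H x) : InC H x⁻¹ := by
  obtain ⟨k, hk⟩ := hx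
  refine ⟨k, ?_⟩
  have := inv_mem hk
  rwa [show (k⁻¹ * x * k)⁻¹ = k⁻¹ * x⁻¹ * k by group] at this

theorem InC.conj {x : G} (hx : InC H x) (c : G) : InC H (c * x * c⁻¹) := by
  obtain ⟨k, hk⟩ := hx
  refine ⟨c * k, ?_⟩
  rwa [show (c * k)⁻¹ * (c * x * c⁻¹) * (c * k) = k⁻¹ * x * k by group]

theorem InC.of_mem {x : G} (hx : x ∈ H) : InC H x := ⟨1, by simpa using hx⟩

theorem core_inv (x : G) : core H x⁻¹ = core H x :=
  le_antisymm (core_le_of_mem (inv_mem (self_mem_core x)))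
    (core_le_of_mem (by simpa using inv_mem (self_mem_core (H := H) x⁻¹)))

theorem core_conj (c x : G) : core H (c * x * c⁻¹) = (core H x).map (MulAut.conj c).toMonoidHom := by
  ext g
  rw [Subgroup.mem_map_equiv, MulAut.conj_symm_apply, mem_core, mem_core]
  constructor
  · intro h k hk
    have := h (c * k) (by rwa [show (c * k)⁻¹ * (c * x * c⁻¹) * (c * k) = k⁻¹ * x * k by group])
    rwa [show (c * k)⁻¹ * g * (c * k) = k⁻¹ * (c⁻¹ * g * c) * k by group] at this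
  · intro h k hk
    have := h (c⁻¹ * k) (by rwa [show (c⁻¹ * k)⁻¹ * x * (c⁻¹ * k) = k⁻¹ * (c * x * c⁻¹) * k by group])
    rwa [show (c⁻¹ * k)⁻¹ * (c⁻¹ * g * c) * (c⁻¹ * k) = k⁻¹ * g * k by group] at this

theorem card_core_conj (c x : G) : Nat.card (core H (c * x * c⁻¹)) = Nat.card (core H x) := by
  rw [core_conj]
  exact (Nat.card_congr ((core H x).equivMapOfInjective _ (MulAut.conj c).injective).toEquiv).symm

/-- `y` is conjugate to `x` or to its inverse. -/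
def ConjPM (x y : G) : Prop := IsConj x y ∨ IsConj x⁻¹ y

theorem card_core_of_conjPM {x y : G} (h : ConjPM x y) : Nat.card (core H y) = Nat.card (core H x) := by
  rcases h with h | h <;> obtain ⟨c, rfl⟩ := isConj_iff.1 h
  · exact card_core_conj c x
  · rw [card_core_conj, core_inv]

theorem InC.of_conjPM {x y : G} (hx : InC H x) (h : ConjPM x y) : InC H y := by
  rcases h with h | h <;> obtain ⟨c, rfl⟩ := isConj_iff.1 h
  · exact hx.conj c
  · exact hx.inv.conj c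

theorem centralizer_le_normalizer_core {x c : G} (hc : c * x = x * c) :
    c ∈ Subgroup.normalizer (core H x : Set G) := by
  have key : ∀ d : G, d * x = x * d → ∀ g ∈ core H x, d * g * d⁻¹ ∈ core H x := by
    intro d hd g hg
    have h1 : core H x = (core H x).map (MulAut.conj d).toMonoidHom := by
      rw [← core_conj, hd, mul_inv_cancel_right]
    rw [h1, Subgroup.mem_map_equiv, MulAut.conj_symm_apply]
    rwa [show d⁻¹ * (d * g * d⁻¹) * d = g by group]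
  rw [Subgroup.mem_normalizer_iff]
  intro g
  refine ⟨key c hc g, fun h => ?_⟩
  have := key c⁻¹ (by rw [inv_mul_eq_iff_eq_mul, ← mul_assoc, hc, mul_inv_cancel_right]) _ h
  rwa [show c⁻¹ * (c * g * c⁻¹) * c⁻¹⁻¹ = g by group] at this

theorem core_ne_top (hH : H ≠ ⊤) {x : G} (hx : InC H x) : core H x ≠ ⊤ := by
  intro h
  obtain ⟨k, hk⟩ := hx
  refine hH (eq_top_iff.2 fun g _ => ?_)
  have := (h ▸ Subgroup.mem_top (k * g * k⁻¹) : k * g * k⁻¹ ∈ core H x) k hk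
  rwa [show k⁻¹ * (k * g * k⁻¹) * k = g by group] at this

theorem core_eq_of_mem_of_card_le [Finite G] {x g : G} (hg : g ∈ core H x)
    (hle : Nat.card (core H x) ≤ Nat.card (core H g)) : core H g = core H x :=
  Subgroup.eq_of_le_of_card_ge (core_le_of_mem hg) hle

/-- Three conjugates of a minimal element forming a triangle lie in one core. -/
theorem triangle_core [Finite G] (hb : BinRep H) {x y : G} (hy : ConjPM x y)
    (hz : ConjPM x (y⁻¹ * x))
    (hmin : ∀ g ∈ core H x, g ∈ core H y → g ≠ 1 → Nat.card (core H x) ≤ Nat.card (core H g)) :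
    y ∈ core H x := by
  classical
  by_contra hyx
  have hcy : Nat.card (core H y) = Nat.card (core H x) := card_core_of_conjPM hy
  have hcz : Nat.card (core H (y⁻¹ * x)) = Nat.card (core H x) := card_core_of_conjPM hz
  -- the two cores meet trivially
  have hint : ∀ g ∈ core H x, g ∈ core H y → g = 1 := by
    intro g hgx hgy
    by_contra hg
    have h1 := core_eq_of_mem_of_card_le hgx (hmin g hgx hgy hg)
    have h2 := core_eq_of_mem_of_card_le hgy (hcy ▸ hmin g hgx hgy hg)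
    exact hyx (h1 ▸ h2 ▸ self_mem_core y)
  -- some conjugate contains the third element but not `x`
  obtain ⟨kc, hkc, hkx⟩ : ∃ k, k⁻¹ * (y⁻¹ * x) * k ∈ H ∧ k⁻¹ * x * k ∉ H := by
    by_contra h
    push Not at h
    have hxz : x ∈ core H (y⁻¹ * x) := h
    have he := core_eq_of_mem_of_card_le hxz hcz.le
    refine hyx ?_
    have := mul_mem (self_mem_core (H := H) x) (inv_mem (he ▸ self_mem_core (y⁻¹ * x) :
      y⁻¹ * x ∈ core H x))
    rwa [show x * (y⁻¹ * x)⁻¹ = y by group] at this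
  refine not_binRep (ι := {k : G // k⁻¹ * x * k ∈ H ∨ k⁻¹ * y * k ∈ H}) (fun k => k.1) kc (x * kc)
    ?_ ?_ hb
  · rintro ⟨k, hk | hk⟩
    · exact ⟨x, hk, by rw [show (x * kc)⁻¹ * x * kc = 1 by group]; exact one_mem H⟩
    · refine ⟨y, hk, ?_⟩
      have := inv_mem hkc
      rwa [show (kc⁻¹ * (y⁻¹ * x) * kc)⁻¹ = (x * kc)⁻¹ * y * kc by group] at this
  · intro g hg hg'
    have hg1 : g = 1 := hint g (fun k hk => hg ⟨k, Or.inl hk⟩) (fun k hk => hg ⟨k, Or.inr hk⟩)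
    subst hg1
    have := inv_mem hg'
    rw [show ((x * kc)⁻¹ * 1 * kc)⁻¹ = kc⁻¹ * x * kc by group] at this
    exact hkx this

/-- A trivial intersection subgroup without triangles gives a binary action. -/
theorem binRep_of_ti
    (hti : ∀ v k k', v ≠ 1 → k⁻¹ * v * k ∈ H → k'⁻¹ * v * k' ∈ H → ∀ w, k⁻¹ * w * k ∈ H → k'⁻¹ * w * k' ∈ H)
    (htri : ∀ v₁ v₂ v₃ k₁ k₂ k₃, k₁⁻¹ * v₁ * k₁ ∈ H → k₂⁻¹ * v₂ * k₂ ∈ H → k₃⁻¹ * v₃ * k₃ ∈ H →
      v₁ = v₂ * v₃ → v₁ ≠ 1 → v₂ ≠ 1 → v₃ ≠ 1 → k₁⁻¹ * v₂ * k₁ ∈ H) :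
    BinRep H := by
  intro n a b hn hp
  set i₀ : Fin n := ⟨0, by omega⟩
  set b' := fun i => a i₀ * (b i₀)⁻¹ * b i with hb'
  have hconv : ∀ g i, (b i)⁻¹ * g * a i = (b' i)⁻¹ * (a i₀ * (b i₀)⁻¹ * g) * a i := by
    intro g i; simp only [hb']; group
  suffices hh : ∃ g, ∀ i, (b' i)⁻¹ * g * a i ∈ H by
    obtain ⟨g, hg⟩ := hh
    refine ⟨b i₀ * (a i₀)⁻¹ * g, fun i => ?_⟩
    rw [hconv, show a i₀ * (b i₀)⁻¹ * (b i₀ * (a i₀)⁻¹ * g) = g by group]
    exact hg i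
  have hp' : ∀ i j, i ≠ j → ∃ g, (b' i)⁻¹ * g * a i ∈ H ∧ (b' j)⁻¹ * g * a j ∈ H := by
    intro i j hij
    obtain ⟨g, h1, h2⟩ := hp i j hij
    exact ⟨a i₀ * (b i₀)⁻¹ * g, hconv g i ▸ h1, hconv g j ▸ h2⟩
  have hb0 : b' i₀ = a i₀ := by simp only [hb']; group
  clear_value b'
  have hex : ∀ i, ∃ z, (a i₀)⁻¹ * z * a i₀ ∈ H ∧ (b' i)⁻¹ * z * a i ∈ H := by
    intro i
    rcases eq_or_ne i i₀ with rfl | hne
    · exact ⟨1, by simp [one_mem], by rw [hb0]; simp [one_mem]⟩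
    · obtain ⟨g, h1, h2⟩ := hp' i i₀ hne
      exact ⟨g, by rwa [hb0] at h2, h1⟩
  choose z hz0 hzi using hex
  have hdiff : ∀ {i : Fin n} {g g' : G}, (b' i)⁻¹ * g * a i ∈ H → (b' i)⁻¹ * g' * a i ∈ H →
      (a i)⁻¹ * (g⁻¹ * g') * a i ∈ H := by
    intro i g g' h1 h2
    have := mul_mem (inv_mem h1) h2
    rwa [show ((b' i)⁻¹ * g * a i)⁻¹ * ((b' i)⁻¹ * g' * a i) = (a i)⁻¹ * (g⁻¹ * g') * a i by group] at this
  have hshift : ∀ {i : Fin n} {g g' : G}, (b' i)⁻¹ * g * a i ∈ H →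
      (a i)⁻¹ * (g⁻¹ * g') * a i ∈ H → (b' i)⁻¹ * g' * a i ∈ H := by
    intro i g g' h1 h2
    have := mul_mem h1 h2
    rwa [show (b' i)⁻¹ * g * a i * ((a i)⁻¹ * (g⁻¹ * g') * a i) = (b' i)⁻¹ * g' * a i by group] at this
  have hzdiff : ∀ i j, (a i₀)⁻¹ * ((z i)⁻¹ * z j) * a i₀ ∈ H := by
    intro i j
    have := mul_mem (inv_mem (hz0 i)) (hz0 j)
    rwa [show ((a i₀)⁻¹ * z i * a i₀)⁻¹ * ((a i₀)⁻¹ * z j * a i₀) = (a i₀)⁻¹ * ((z i)⁻¹ * z j) * a i₀ by group]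
      at this
  by_cases hall : ∀ i, ∀ w, (a i₀)⁻¹ * w * a i₀ ∈ H → (a i)⁻¹ * w * a i ∈ H
  · refine ⟨1, fun i => hshift (hzi i) ?_⟩
    rw [mul_one]
    refine hall i _ ?_
    have := inv_mem (hz0 i)
    rwa [show ((a i₀)⁻¹ * z i * a i₀)⁻¹ = (a i₀)⁻¹ * (z i)⁻¹ * a i₀ by group] at this
  push Not at hall
  obtain ⟨j, w, hw, hwj⟩ := hall
  refine ⟨z j, fun i => ?_⟩
  by_cases hi0 : ∀ w, (a i₀)⁻¹ * w * a i₀ ∈ H → (a i)⁻¹ * w * a i ∈ H
  · exact hshift (hzi i) (hi0 _ (hzdiff i j))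
  suffices hone : (z i)⁻¹ * z j = 1 by
    rw [← inv_mul_eq_one.1 hone]; exact hzi i
  rcases eq_or_ne i j with rfl | hij
  · exact inv_mul_cancel _
  obtain ⟨g, hgi, hgj⟩ := hp' i j hij
  have hs := hdiff (hzi i) hgi
  have hs' := hdiff hgj (hzi j)
  have heq : (z i)⁻¹ * z j = ((z i)⁻¹ * g) * (g⁻¹ * z j) := by group
  by_contra hne
  rcases eq_or_ne ((z i)⁻¹ * g) 1 with e | h2
  · rw [heq, e, one_mul] at hne
    exact hwj (hti _ _ _ hne (by have := hzdiff i j; rwa [heq, e, one_mul] at this) hs' w hw)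
  rcases eq_or_ne (g⁻¹ * z j) 1 with e | h3
  · rw [heq, e, mul_one] at hne
    exact hi0 (hti _ _ _ hne (by have := hzdiff i j; rwa [heq, e, mul_one] at this) hs)
  exact hi0 (hti _ _ _ h2 (htri _ _ _ _ _ _ (hzdiff i j) hs hs' heq hne h2 h3) hs)

end CfsgLib.SL2.Binary
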