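import Mathlib
import Cfsg.Agent.Lib.SL2.Dickson.Maximal
import Cfsg.Agent.Lib.SL2.Dickson.Main

/-!
# Trace triangles in `SL₂(q)` and the subgroups of `PSL₂(q)` containing a given pair
-/

set_option autoImplicit false

open Matrix
open scoped MatrixGroups
open CfsgLib.ClassicalLinear (upS upS_coe)

namespace CfsgLib.SL2.Binary

open CfsgLib.SL2.Dickson

variable {F : Type*} [Field F]

local notation "SL₂F" => Matrix.SpecialLinearGroup (Fin 2) F
local notation "PSL₂F" => Matrix.ProjectiveSpecialLinearGroup (Fin 2) F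
local notation "M₂" => Matrix (Fin 2) (Fin 2) F

/-- The trace of a commutator. -/
lemma tr_commutator (X Y : SL₂F) :
    tr (X * Y * X⁻¹ * Y⁻¹) = tr X ^ 2 + tr Y ^ 2 + tr (X * Y) ^ 2 - tr X * tr Y * tr (X * Y) - 2 := by
  have hX := det_eq X
  have hY := det_eq Y
  simp only [tr, Matrix.SpecialLinearGroup.coe_mul, Matrix.SpecialLinearGroup.coe_inv, Matrix.adjugate_fin_two,
    Matrix.mul_apply, Fin.sum_univ_two, Matrix.of_apply, Matrix.cons_val', Matrix.cons_val_zero,
    Matrix.cons_val_one, Matrix.cons_val_fin_one] at *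
  grind

/-- `tr (X Y) + tr (X⁻¹ Y) = tr X tr Y`. -/
lemma tr_mul_add (X Y : SL₂F) : tr (X * Y) + tr (X⁻¹ * Y) = tr X * tr Y := by
  simp only [tr, Matrix.SpecialLinearGroup.coe_mul, Matrix.SpecialLinearGroup.coe_inv, Matrix.adjugate_fin_two,
    Matrix.mul_apply, Fin.sum_univ_two, Matrix.of_apply, Matrix.cons_val', Matrix.cons_val_zero,
    Matrix.cons_val_one, Matrix.cons_val_fin_one]
  ring

lemma tr_sq_mul (X Y : SL₂F) : tr (X * (X * Y)) = tr X * tr (X * Y) - tr Y := by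
  have := tr_mul_add X (X * Y)
  rw [inv_mul_cancel_left] at this
  linear_combination this

lemma tr_one : tr (1 : SL₂F) = 2 := by simp [tr]; norm_num

lemma tr_commutator_eq_two_of_comm {X Y : SL₂F} (h : X * Y = Y * X) : tr (X * Y * X⁻¹ * Y⁻¹) = 2 := by
  rw [h, mul_inv_cancel_right, mul_inv_cancel, tr_one]

lemma tr_commutator_eq_two_of_borel {u X Y : SL₂F} (hX : u * X * u⁻¹ ∈ borel F) (hY : u * Y * u⁻¹ ∈ borel F) :
    tr (X * Y * X⁻¹ * Y⁻¹) = 2 := by
  rw [← tr_conj (X * Y * X⁻¹ * Y⁻¹) u, show u * (X * Y * X⁻¹ * Y⁻¹) * u⁻¹ =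
    (u * X * u⁻¹) * (u * Y * u⁻¹) * (u * X * u⁻¹)⁻¹ * (u * Y * u⁻¹)⁻¹ by group]
  set P := u * X * u⁻¹
  set Q := u * Y * u⁻¹
  have hP : (P : M₂) 1 0 = 0 := hX
  have hQ : (Q : M₂) 1 0 = 0 := hY
  have dP := det_eq P
  have dQ := det_eq Q
  rw [tr_commutator]
  simp only [tr, Matrix.SpecialLinearGroup.coe_mul, Matrix.mul_apply, Fin.sum_univ_two, hP, hQ] at *
  grind

lemma tr_eq_zero_of_inverts {g k : SL₂F} (hg : g ∉ Subgroup.center SL₂F) (h : k * g * k⁻¹ = g⁻¹) :
    tr k = 0 := by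
  have h1 := congrArg (fun x : SL₂F => (x : M₂)) (mul_self_eq_neg_one hg h)
  simp only [Matrix.SpecialLinearGroup.coe_mul, mul_self_eq, Matrix.SpecialLinearGroup.coe_neg,
    Matrix.SpecialLinearGroup.coe_one] at h1
  have h2 : tr k • (k : M₂) = 0 := by
    rwa [sub_eq_neg_self] at h1
  rcases smul_eq_zero.1 h2 with h3 | h3
  · exact h3
  · exfalso
    have := det_eq k
    rw [h3] at this
    simp at this

/-- An element without eigenvalues in `F` commutes with whatever has trivial commutator trace. -/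
lemma comm_of_tr_commutator {b c : SL₂F} (hroot : ¬ ∃ l : F, l * l = tr b * l - 1)
    (h : tr (b * c * b⁻¹ * c⁻¹) = 2) : b * c = c * b := by
  have hb := det_eq b
  set N : M₂ := (b : M₂) * c - (c : M₂) * b with hN
  have hq : ∀ i j, N i j = ((b : M₂) * c) i j - ((c : M₂) * b) i j := fun i j => by rw [hN]; rfl
  simp only [Matrix.mul_apply, Fin.sum_univ_two] at hq
  have hdetN : N 0 0 * N 1 1 - N 0 1 * N 1 0 = 0 := by
    rw [tr_commutator] at h
    have hc := det_eq c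
    simp only [hq, tr, Matrix.SpecialLinearGroup.coe_mul, Matrix.mul_apply, Fin.sum_univ_two] at *
    grind
  have h10 : (b : M₂) 1 0 ≠ 0 := by
    intro h0
    refine hroot ⟨(b : M₂) 0 0, ?_⟩
    simp only [tr]
    rw [h0, mul_zero] at hb
    linear_combination -hb
  by_cases hz : N 1 0 = 0
  · have e00 : N 0 0 = 0 := by
      have : N 1 1 = - N 0 0 := by simp only [hq]; ring
      rw [hz, this, mul_zero, sub_zero] at hdetN
      simpa using hdetN
    have e01 : N 0 1 = 0 := by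
      have : (b : M₂) 1 0 * N 0 1 = ((b : M₂) 1 1 - (b : M₂) 0 0) * N 0 0 - (b : M₂) 0 1 * N 1 0 := by
        simp only [hq]; ring
      rw [e00, hz, mul_zero, mul_zero, sub_zero] at this
      exact (mul_eq_zero.1 this).resolve_left h10
    have e11 : N 1 1 = 0 := by
      have : N 1 1 = - N 0 0 := by simp only [hq]; ring
      rw [this, e00, neg_zero]
    apply Subtype.ext
    have hN0 : N = 0 := by
      ext i j; fin_cases i <;> fin_cases j
      · exact e00
      · exact e01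
      · exact hz
      · exact e11
    rw [hN, sub_eq_zero] at hN0
    simpa using hN0
  · exfalso
    -- the kernel of `N` would be an eigenline
    set u := N 0 0 / N 1 0 with hu
    refine hroot ⟨(b : M₂) 1 1 + (b : M₂) 1 0 * u, ?_⟩
    have e1 : (b : M₂) 1 0 * N 0 1 = ((b : M₂) 1 1 - (b : M₂) 0 0) * N 0 0 - (b : M₂) 0 1 * N 1 0 := by
      simp only [hq]; ring
    have e2 : N 1 1 = - N 0 0 := by simp only [hq]; ring
    rw [e2] at hdetN
    have e3 : N 0 0 = u * N 1 0 := by rw [hu, div_mul_cancel₀ _ hz]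
    rw [e3] at hdetN e1
    have hQ : (b : M₂) 1 0 * u ^ 2 + ((b : M₂) 1 1 - (b : M₂) 0 0) * u - (b : M₂) 0 1 = 0 := by
      refine mul_left_cancel₀ (mul_ne_zero hz hz) ?_
      linear_combination (-(b : M₂) 1 0) * hdetN - N 1 0 * e1
    simp only [tr]
    linear_combination (b : M₂) 1 0 * hQ - hb

/-- Every pair of traces occurs in a triangle on a semisimple element. -/
lemma exists_triangle [Finite F] {X : SL₂F} (ht : tr X ^ 2 ≠ 4) (a b : F) :
    ∃ Y : SL₂F, tr Y = a ∧ tr (X⁻¹ * Y) = b := by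
  obtain ⟨c, hc⟩ := isConj_iff.1 (isConj_companion ht)
  set t := tr X with ht'
  suffices h : ∃ Y : SL₂F, tr Y = a ∧ tr ((companion t)⁻¹ * Y) = b by
    obtain ⟨Y, h1, h2⟩ := h
    refine ⟨c * Y * c⁻¹, by rw [tr_conj, h1], ?_⟩
    rw [← hc, show (c * companion t * c⁻¹)⁻¹ * (c * Y * c⁻¹) = c * ((companion t)⁻¹ * Y) * c⁻¹ by group,
      tr_conj, h2]
  -- solve `p (a - p) - s (t p + s - b) = 1`
  have hne : t ^ 2 - 4 ≠ 0 := sub_ne_zero.2 ht
  set p₀ := (t * b - 2 * a) / (t ^ 2 - 4) with hp₀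
  set s₀ := (t * a - 2 * b) / (t ^ 2 - 4) with hs₀
  have hp : (t ^ 2 - 4) * p₀ = t * b - 2 * a := by rw [hp₀]; field_simp
  have hs : (t ^ 2 - 4) * s₀ = t * a - 2 * b := by rw [hs₀]; field_simp
  have key : ∃ p s : F, p * (a - p) - s * (t * p + s - b) = 1 := by
    set r := a * p₀ + b * s₀ - (p₀ ^ 2 + t * p₀ * s₀ + s₀ ^ 2) - 1 with hr
    have hlin1 : 2 * p₀ + t * s₀ = a := mul_left_cancel₀ hne (by linear_combination 2 * hp + t * hs)
    have hlin2 : t * p₀ + 2 * s₀ = b := mul_left_cancel₀ hne (by linear_combination t * hp + 2 * hs)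
    by_cases h0 : r = 0
    · exact ⟨p₀, s₀, by linear_combination hr.symm.trans h0⟩
    · obtain ⟨u, v, huv⟩ := exists_norm_eq ht h0
      refine ⟨p₀ + u, s₀ + v, ?_⟩
      linear_combination -huv - u * hlin1 - v * hlin2 - hr
  obtain ⟨p, s, hps⟩ := key
  obtain ⟨Y, hY⟩ : ∃ Y : SL₂F, (Y : M₂) = !![p, t * p + s - b; s, a - p] :=
    ⟨⟨_, by rw [Matrix.det_fin_two_of]; linear_combination hps⟩, rfl⟩
  have h1 : tr Y = a := by simp [tr, hY]
  refine ⟨Y, h1, ?_⟩
  have h3 := tr_mul_add (companion t) Y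
  have h4 : tr (companion t * Y) = -s + ((t * p + s - b) + t * (a - p)) := by
    rw [tr, Matrix.SpecialLinearGroup.coe_mul, hY, show (companion t : M₂) = !![0, -1; 1, t] from rfl]
    simp [Matrix.mul_apply, Fin.sum_univ_two]
  rw [tr_companion, h1, h4] at h3
  linear_combination h3

lemma proj_eq_one_iff (g : SL₂F) : proj g = 1 ↔ g ∈ Subgroup.center SL₂F := QuotientGroup.eq_one_iff g

lemma coeff_eq_zero_of_center {z w : SL₂F} (hz : z ∉ Subgroup.center SL₂F) {c d : F}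
    (hw : (w : M₂) = c • (1 : M₂) + d • (z : M₂)) (h : w ∈ Subgroup.center SL₂F) : d = 0 := by
  obtain ⟨e, he⟩ := (isScalarMat_iff _).1 ((mem_center_iff_isScalarMat w).1 h)
  exact (lin_ext (mt (mem_center_iff_isScalarMat z).2 hz) (hw.symm.trans (he.trans (by module : (e • (1 : M₂)) = e • (1 : M₂) + (0 : F) • (z : M₂))))).2

lemma coe_pow_two (z : SL₂F) : ((z ^ 2 : SL₂F) : M₂) = (-1 : F) • (1 : M₂) + tr z • (z : M₂) := by
  rw [pow_two, Matrix.SpecialLinearGroup.coe_mul, mul_self_eq]; module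

lemma coe_pow_succ {z : SL₂F} {n : ℕ} {c d : F}
    (h : ((z ^ n : SL₂F) : M₂) = c • (1 : M₂) + d • (z : M₂)) :
    ((z ^ (n + 1) : SL₂F) : M₂) = (-d) • (1 : M₂) + (c + d * tr z) • (z : M₂) := by
  rw [pow_succ, Matrix.SpecialLinearGroup.coe_mul, h, add_mul, Matrix.smul_mul, Matrix.smul_mul, one_mul,
    mul_self_eq]
  module

/-- The coefficients of `z` in `z², z³, z⁴, z⁵`. -/
lemma pow_coeffs (z : SL₂F) : ∀ n ∈ ({2, 3, 4, 5} : Finset ℕ), ∃ c : F,
    ((z ^ n : SL₂F) : M₂) = c • (1 : M₂) +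
      (if n = 2 then tr z else if n = 3 then tr z ^ 2 - 1 else if n = 4 then tr z * (tr z ^ 2 - 2)
        else tr z ^ 4 - 3 * tr z ^ 2 + 1) • (z : M₂) := by
  have h2 := coe_pow_two z
  have h3 := coe_pow_succ h2
  have h4 := coe_pow_succ h3
  have h5 := coe_pow_succ h4
  intro n hn
  simp only [Finset.mem_insert, Finset.mem_singleton] at hn
  rcases hn with rfl | rfl | rfl | rfl <;> norm_num
  · exact ⟨-1, by simpa using h2⟩
  · exact ⟨_, h3.trans (by congr 2; ring)⟩
  · exact ⟨_, h4.trans (by congr 2; ring)⟩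
  · exact ⟨_, h5.trans (by congr 2; ring)⟩

lemma proj_pow_eq_one {z : SL₂F} {n : ℕ} (hz : z ∉ Subgroup.center SL₂F) {c d : F}
    (hn : ((z ^ n : SL₂F) : M₂) = c • (1 : M₂) + d • (z : M₂)) : proj z ^ n = 1 ↔ d = 0 := by
  rw [← map_pow, proj_eq_one_iff]
  refine ⟨coeff_eq_zero_of_center hz hn, fun hd => ?_⟩
  rw [mem_center_iff_isScalarMat, isScalarMat_iff]
  exact ⟨c, by rw [hn, hd, zero_smul, add_zero]⟩

lemma six_le_orderOf [Finite F] {z : SL₂F} (hz : z ∉ Subgroup.center SL₂F) (h2 : tr z ≠ 0)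
    (h3 : tr z ^ 2 ≠ 1) (h4 : tr z ^ 2 ≠ 2) (h5 : tr z ^ 4 - 3 * tr z ^ 2 + 1 ≠ 0) :
    6 ≤ orderOf (proj z) := by
  by_contra hlt
  have hpos := orderOf_pos (proj z)
  have hpow := pow_orderOf_eq_one (proj z)
  set n := orderOf (proj z)
  have hn : n = 1 ∨ n ∈ ({2, 3, 4, 5} : Finset ℕ) := by simp; omega
  rcases hn with hn | hn
  · rw [hn, pow_one] at hpow; exact hz ((proj_eq_one_iff z).1 hpow)
  · obtain ⟨c, hc⟩ := pow_coeffs z n hn
    have := (proj_pow_eq_one hz hc).1 hpow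
    simp only [Finset.mem_insert, Finset.mem_singleton] at hn
    rcases hn with e | e | e | e <;> simp [e] at this
    · exact h2 this
    · exact h3 (sub_eq_zero.1 this)
    · rcases this with h | h
      · exact h2 h
      · exact h4 (sub_eq_zero.1 h)
    · exact h5 this

lemma orderOf_eq_four {z : SL₂F} (hz : z ∉ Subgroup.center SL₂F) (h2 : tr z ≠ 0) (h4 : tr z ^ 2 = 2) :
    orderOf (proj z) = 4 := by
  have : Fact (Nat.Prime 2) := ⟨Nat.prime_two⟩
  refine orderOf_eq_prime_pow (p := 2) (n := 1) ?_ ?_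
  · obtain ⟨c, hc⟩ := pow_coeffs z 2 (by simp)
    rw [show (2 : ℕ) ^ 1 = 2 by norm_num, proj_pow_eq_one hz hc]
    simpa using h2
  · obtain ⟨c, hc⟩ := pow_coeffs z 4 (by simp)
    rw [show (2 : ℕ) ^ (1 + 1) = 4 by norm_num, proj_pow_eq_one hz hc]
    simp [h4]

lemma orderOf_eq_five {z : SL₂F} (hz : z ∉ Subgroup.center SL₂F)
    (h5 : tr z ^ 4 - 3 * tr z ^ 2 + 1 = 0) : orderOf (proj z) = 5 := by
  have : Fact (Nat.Prime 5) := ⟨Nat.prime_five⟩
  refine orderOf_eq_prime ?_ fun h => hz ((proj_eq_one_iff z).1 h)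
  obtain ⟨c, hc⟩ := pow_coeffs z 5 (by simp)
  rw [proj_pow_eq_one hz hc]
  simpa using h5

variable [Finite F]

/-- A subgroup of `PSL₂(q)` with elements of large order fixes a point or a torus. -/
lemma borel_or_torus {K : Subgroup PSL₂F} (hK : K ≠ ⊤) {z z' : PSL₂F} (hz : z ∈ K) (hz' : z' ∈ K)
    (h5 : 5 ≤ orderOf z) (hR : ∀ r : ℕ, 2 ≤ r → r * r ≤ Nat.card F → r + 1 < orderOf z)
    (hA5 : 6 ≤ orderOf z' ∨ orderOf z' = 4 ∨ Nat.card PSL₂F ≤ 60) :
    IsBorelCase (lift K) ∨ IsTorusCase (lift K) := by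
  classical
  have hord : ∀ {w : PSL₂F} {W : Type} [Group W] (f : K ≃* W) (hw : w ∈ K),
      orderOf (f ⟨w, hw⟩) = orderOf w := fun f hw => by
    rw [MulEquiv.orderOf_eq, Subgroup.orderOf_mk]
  rcases classification (center_le_lift K) with h | h | ⟨-, ⟨f⟩⟩ | ⟨-, ⟨f⟩⟩ | ⟨hi, ⟨f⟩⟩ | ⟨R, k, hR3, hi, hk⟩
  · exact Or.inl h
  · exact Or.inr h
  · exfalso
    have f' := (liftEquiv K).symm.trans f
    have h := hord f' hz
    rcases alternating_four_pow (f' ⟨z, hz⟩) with e | e <;>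
      have := Nat.le_of_dvd (by norm_num) (h ▸ orderOf_dvd_of_pow_eq_one e) <;> omega
  · exfalso
    have f' := (liftEquiv K).symm.trans f
    have h := hord f' hz
    rcases perm_four_pow (f' ⟨z, hz⟩) with e | e <;>
      have := Nat.le_of_dvd (by norm_num) (h ▸ orderOf_dvd_of_pow_eq_one e) <;> omega
  · exfalso
    have f' := (liftEquiv K).symm.trans f
    rw [card_eq_index_zG] at hi
    rcases hA5 with h6 | h4 | hsm
    · have := orderOf_alternating_five_le (f' ⟨z', hz'⟩)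
      rw [hord f' hz'] at this
      omega
    · have h : (f' ⟨z', hz'⟩) ^ 2 = 1 ∨ (f' ⟨z', hz'⟩) ^ 3 = 1 ∨ (f' ⟨z', hz'⟩) ^ 5 = 1 := by
        generalize f' ⟨z', hz'⟩ = x
        revert x; decide +kernel
      rcases h with e | e | e <;>
        have := orderOf_dvd_of_pow_eq_one e <;> rw [hord f' hz', h4] at this <;> norm_num at this
    · exact hK (Subgroup.eq_top_of_card_eq K (le_antisymm
        (Subgroup.card_le_card_group K) (by omega)))
  · exfalso
    rw [card_eq_index_zG] at hi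
    set r := Nat.card R with hr
    have hpow : r ^ Module.finrank R F = Nat.card F :=
      (Module.natCard_eq_pow_finrank (K := R) (V := F)).symm
    have hk' : k = r - 1 ∨ 2 * k = r - 1 := hk.imp And.left And.left
    rcases Nat.lt_or_ge (Module.finrank R F) 2 with hm | hm
    · have hm1 : Module.finrank R F = 1 := by
        have : 0 < Module.finrank R F := Module.finrank_pos
        omega
      rw [hm1, pow_one] at hpow
      rw [hpow] at hk' hi
      exact hK (eq_top_of_index_formula hk' hi)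
    · have hrq : r * r ≤ Nat.card F := by
        rw [← hpow, ← pow_two]
        exact Nat.pow_le_pow_right (by omega) hm
      have hlt := hR r (by omega) hrq
      have hle : orderOf z ≤ r + 1 := by
        rw [← Subgroup.orderOf_mk z hz]
        rcases hk with ⟨-, ⟨f⟩⟩ | ⟨-, ⟨f⟩⟩
        · rw [← MulEquiv.orderOf_eq ((liftEquiv K).symm.trans f)]
          exact orderOf_pgl_le _
        · rw [← MulEquiv.orderOf_eq ((liftEquiv K).symm.trans f),
            ← orderOf_injective Matrix.ProjectiveSpecialLinearGroup.toPGL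
              Matrix.ProjectiveSpecialLinearGroup.toPGL_injective]
          exact orderOf_pgl_le _
      omega

/-- No proper subgroup holds an irreducible non-dihedral pair and elements of large order. -/
lemma eq_top_of_pair {K : Subgroup PSL₂F} {X Y : SL₂F} (hX : proj X ∈ K) (hY : proj Y ∈ K)
    (hX0 : tr X ≠ 0) (hY0 : tr Y ≠ 0) (hirr : tr (X * Y * X⁻¹ * Y⁻¹) ≠ 2) {z z' : PSL₂F} (hz : z ∈ K)
    (hz' : z' ∈ K) (h5 : 5 ≤ orderOf z)
    (hR : ∀ r : ℕ, 2 ≤ r → r * r ≤ Nat.card F → r + 1 < orderOf z)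
    (hA5 : 6 ≤ orderOf z' ∨ orderOf z' = 4 ∨ Nat.card PSL₂F ≤ 60) : K = ⊤ := by
  by_contra hK
  rcases borel_or_torus hK hz hz' h5 hR hA5 with ⟨u, hu⟩ | ⟨g, hg, ht, hN⟩
  · exact hirr (tr_commutator_eq_two_of_borel (hu X hX) (hu Y hY))
  · have hgc : (g : SL₂F) ∉ Subgroup.center SL₂F := notMem_center_of_tr ht
    have hmem : ∀ W : SL₂F, proj W ∈ K → tr W ≠ 0 →
        W ∈ Subgroup.centralizer ({(g : SL₂F)} : Set SL₂F) := by
      intro W hW hW0
      rcases (normalizer_cG_iff (g := g) ht ⟨W, hW⟩).1 (hN ▸ Subgroup.mem_top _) with h | h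
      · exact Subgroup.mem_centralizer_singleton_iff.2 (mul_inv_eq_iff_eq_mul.1 h)
      · exact absurd (tr_eq_zero_of_inverts hgc h) hW0
    exact hirr (tr_commutator_eq_two_of_comm (centralizer_mulComm hgc (hmem X hX hX0) (hmem Y hY hY0)))

end CfsgLib.SL2.Binary
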