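import Mathlib
import Cfsg.Agent.Lib.SL2.BinaryTriangle

/-!
# No proper subgroup of `PSL₂(q)` contains all the triangles of a semisimple class
-/

set_option autoImplicit false

open Matrix
open scoped MatrixGroups

namespace CfsgLib.SL2.Binary

open CfsgLib.SL2.Dickson

variable {F : Type*} [Field F]

local notation "SL₂F" => Matrix.SpecialLinearGroup (Fin 2) F
local notation "PSL₂F" => Matrix.ProjectiveSpecialLinearGroup (Fin 2) F
local notation "M₂" => Matrix (Fin 2) (Fin 2) F

lemma companion_coe (t : F) : (companion t : M₂) = !![0, -1; 1, t] := rfl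

lemma notMem_center_of_entry {g : SL₂F} (h : (g : M₂) 1 0 ≠ 0) : g ∉ Subgroup.center SL₂F := fun hc =>
  h ((mem_center_iff_isScalarMat g).1 hc).2.1

lemma notMem_center_mul_of_irr {X Y : SL₂F} (h : tr (X * Y * X⁻¹ * Y⁻¹) ≠ 2) :
    X * Y ∉ Subgroup.center SL₂F ∧ X * (X * Y) ∉ Subgroup.center SL₂F := by
  constructor <;> intro hc <;> refine h (tr_commutator_eq_two_of_comm ?_)
  · have := Subgroup.mem_center_iff.1 hc X
    exact mul_left_cancel (by rw [this, mul_assoc])
  · have := Subgroup.mem_center_iff.1 hc X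
    exact mul_left_cancel (a := X) (mul_left_cancel (a := X) (by rw [this]; simp only [mul_assoc]))

variable [Finite F]

/-- The torus of an element has elements of large order when the field is large. -/
lemma exists_big {X : SL₂F} (ht : tr X ^ 2 ≠ 4) (hq : 13 ≤ Nat.card F ∨ Nat.card F = 8) :
    ∃ g : SL₂F, g * X = X * g ∧ 6 ≤ orderOf (proj g) ∧
      ∀ r : ℕ, 2 ≤ r → r * r ≤ Nat.card F → r + 1 < orderOf (proj g) := by
  classical
  set C := Subgroup.centralizer ({X} : Set SL₂F) with hC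
  have := isCyclic_centralizer ht
  obtain ⟨⟨g, hg⟩, hgen⟩ := IsCyclic.exists_ofOrder_eq_natCard (α := C)
  rw [Subgroup.orderOf_mk] at hgen
  have hgX : g * X = X * g := Subgroup.mem_centralizer_singleton_iff.1 hg
  have hcle : Subgroup.center SL₂F ≤ C := fun z hz =>
    Subgroup.mem_centralizer_singleton_iff.2 (Subgroup.mem_center_iff.1 hz X).symm
  obtain ⟨a, ha⟩ := Subgroup.card_dvd_of_le hcle
  have hε : Nat.card (Subgroup.center SL₂F) ≤ 2 ∧ (Nat.card F = 8 → Nat.card (Subgroup.center SL₂F) = 1) := by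
    rw [center_card_eq_gcd]
    exact ⟨Nat.le_of_dvd two_pos (Nat.gcd_dvd_left _ _), fun h => by rw [h]; norm_num⟩
  have hcard : Nat.card F - 1 ≤ Nat.card C := by
    rcases card_centralizer_or ht with e | e <;> rw [hC, e] <;> omega
  have hgc : g ∉ Subgroup.center SL₂F := by
    intro hz
    have h1 : orderOf g ≤ Nat.card (Subgroup.center SL₂F) :=
      Nat.le_of_dvd Nat.card_pos (Subgroup.orderOf_dvd_natCard _ hz)
    omega
  have hCg : Subgroup.centralizer ({g} : Set SL₂F) = C :=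
    centralizer_eq_of_mem (notMem_center_of_tr ht) hg hgc
  have hord : orderOf (proj g) = a := orderOf_proj_generator (by rw [hCg, hgen]) (by rw [hCg, ha])
  refine ⟨g, hgX, ?_, fun r hr2 hrq => ?_⟩ <;> rw [hord]
  · rcases hq with h | h
    · have : Nat.card C ≤ 2 * a := ha ▸ Nat.mul_le_mul_right a hε.1
      omega
    · rw [ha, hε.2 h, one_mul] at hcard
      omega
  · rcases hq with h | h
    · have : Nat.card C ≤ 2 * a := ha ▸ Nat.mul_le_mul_right a hε.1
      rcases le_or_gt r 3 with h3 | h3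
      · omega
      · have : 4 * r ≤ r * r := Nat.mul_le_mul_right r h3
        omega
    · rw [ha, hε.2 h, one_mul] at hcard
      have : r ≤ 2 := by nlinarith
      omega

/-- The arithmetic of the fields with seven and eleven elements. -/
def BigTrace (a : F) : Prop := a ≠ 0 ∧ a ^ 2 ≠ 1 ∧ a ^ 2 ≠ 2 ∧ a ^ 4 - 3 * a ^ 2 + 1 ≠ 0

lemma bigTrace_orderOf {z : SL₂F} (hz : z ∉ Subgroup.center SL₂F) (h : BigTrace (tr z)) :
    6 ≤ orderOf (proj z) := six_le_orderOf hz h.1 h.2.1 h.2.2.1 h.2.2.2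

theorem small_arith_seven : ∀ t : ZMod 7, t ≠ 0 → t ^ 2 ≠ 4 →
    ∃ p s : ZMod 7, (s ≠ 0 ∧ p ^ 2 + t * p * s + s ^ 2 = 1 ∧ 2 * p + t * s ≠ 0 ∧ (2 * p + t * s) ^ 2 ≠ 1 ∧
        (2 * p + t * s) ^ 2 ≠ 2 ∧ (2 * p + t * s) ^ 4 - 3 * (2 * p + t * s) ^ 2 + 1 ≠ 0) ∨
      ∃ e : ZMod 7, (e = t ∨ e = -t) ∧ p * (t - p) - (t * p + s - e) * s = 1 ∧
        ((p + t * s ≠ 0 ∧ t * t - e ≠ 0 ∧ (t * t - e) ^ 2 ≠ 1 ∧ (t * t - e) ^ 2 ≠ 2 ∧
            (t * t - e) ^ 4 - 3 * (t * t - e) ^ 2 + 1 ≠ 0) ∨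
          (-s + t * (p + t * s) ≠ 0 ∧ t * (t * t - e) - t ≠ 0 ∧ (t * (t * t - e) - t) ^ 2 ≠ 1 ∧
            (t * (t * t - e) - t) ^ 2 ≠ 2 ∧
            (t * (t * t - e) - t) ^ 4 - 3 * (t * (t * t - e) - t) ^ 2 + 1 ≠ 0)) := by
  decide +kernel

theorem small_arith_eleven : ∀ t : ZMod 11, t ≠ 0 → t ^ 2 ≠ 4 →
    ∃ p s : ZMod 11, (s ≠ 0 ∧ p ^ 2 + t * p * s + s ^ 2 = 1 ∧ 2 * p + t * s ≠ 0 ∧ (2 * p + t * s) ^ 2 ≠ 1 ∧
        (2 * p + t * s) ^ 2 ≠ 2 ∧ (2 * p + t * s) ^ 4 - 3 * (2 * p + t * s) ^ 2 + 1 ≠ 0) ∨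
      ∃ e : ZMod 11, (e = t ∨ e = -t) ∧ p * (t - p) - (t * p + s - e) * s = 1 ∧
        ((p + t * s ≠ 0 ∧ t * t - e ≠ 0 ∧ (t * t - e) ^ 2 ≠ 1 ∧ (t * t - e) ^ 2 ≠ 2 ∧
            (t * t - e) ^ 4 - 3 * (t * t - e) ^ 2 + 1 ≠ 0) ∨
          (-s + t * (p + t * s) ≠ 0 ∧ t * (t * t - e) - t ≠ 0 ∧ (t * (t * t - e) - t) ^ 2 ≠ 1 ∧
            (t * (t * t - e) - t) ^ 2 ≠ 2 ∧
            (t * (t * t - e) - t) ^ 4 - 3 * (t * (t * t - e) - t) ^ 2 + 1 ≠ 0)) := by
  decide +kernel

/-- The same arithmetic in a field with seven or eleven elements. -/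
lemma small_arith (h : Nat.card F = 7 ∨ Nat.card F = 11) (t : F) (ht0 : t ≠ 0) (ht : t ^ 2 ≠ 4) :
    ∃ p s : F, (s ≠ 0 ∧ p ^ 2 + t * p * s + s ^ 2 = 1 ∧ BigTrace (2 * p + t * s)) ∨
      ∃ e : F, (e = t ∨ e = -t) ∧ p * (t - p) - (t * p + s - e) * s = 1 ∧
        ((p + t * s ≠ 0 ∧ BigTrace (t * t - e)) ∨
          (-s + t * (p + t * s) ≠ 0 ∧ BigTrace (t * (t * t - e) - t))) := by
  classical
  have : Fintype F := Fintype.ofFinite F
  simp only [Nat.card_eq_fintype_card] at h
  rcases h with h | h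
  · let φ := ZMod.ringEquivOfPrime F (by norm_num : Nat.Prime 7) h
    obtain ⟨t', rfl⟩ := φ.surjective t
    have hne : ∀ {a b : ZMod 7}, a ≠ b → φ a ≠ φ b := fun hab e => hab (φ.injective e)
    obtain ⟨p, s, hps⟩ := small_arith_seven t' (fun e => ht0 (by rw [e, map_zero]))
      (fun e => ht (by rw [← map_pow, e, map_ofNat]))
    refine ⟨φ p, φ s, ?_⟩
    rcases hps with ⟨h0, h1, h2, h3, h4, h5⟩ | ⟨e, he, h1, h2⟩
    · refine Or.inl ⟨?_, ?_, ?_, ?_, ?_, ?_⟩
      · simpa [map_ofNat] using hne h0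
      · simpa [map_ofNat] using congrArg φ h1
      · simpa [map_ofNat] using hne h2
      · simpa [map_ofNat] using hne h3
      · simpa [map_ofNat] using hne h4
      · simpa [map_ofNat] using hne h5
    · refine Or.inr ⟨φ e, by rcases he with rfl | rfl <;> simp, by simpa using congrArg φ h1, ?_⟩
      rcases h2 with ⟨a0, a1, a2, a3, a4⟩ | ⟨a0, a1, a2, a3, a4⟩
      · refine Or.inl ⟨by simpa [map_ofNat] using hne a0, by simpa [map_ofNat] using hne a1, by simpa [map_ofNat] using hne a2,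
          by simpa [map_ofNat] using hne a3, by simpa [map_ofNat] using hne a4⟩
      · refine Or.inr ⟨by simpa [map_ofNat] using hne a0, by simpa [map_ofNat] using hne a1, by simpa [map_ofNat] using hne a2,
          by simpa [map_ofNat] using hne a3, by simpa [map_ofNat] using hne a4⟩
  · let φ := ZMod.ringEquivOfPrime F (by norm_num : Nat.Prime 11) h
    obtain ⟨t', rfl⟩ := φ.surjective t
    have hne : ∀ {a b : ZMod 11}, a ≠ b → φ a ≠ φ b := fun hab e => hab (φ.injective e)
    obtain ⟨p, s, hps⟩ := small_arith_eleven t' (fun e => ht0 (by rw [e, map_zero]))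
      (fun e => ht (by rw [← map_pow, e, map_ofNat]))
    refine ⟨φ p, φ s, ?_⟩
    rcases hps with ⟨h0, h1, h2, h3, h4, h5⟩ | ⟨e, he, h1, h2⟩
    · refine Or.inl ⟨?_, ?_, ?_, ?_, ?_, ?_⟩
      · simpa [map_ofNat] using hne h0
      · simpa [map_ofNat] using congrArg φ h1
      · simpa [map_ofNat] using hne h2
      · simpa [map_ofNat] using hne h3
      · simpa [map_ofNat] using hne h4
      · simpa [map_ofNat] using hne h5
    · refine Or.inr ⟨φ e, by rcases he with rfl | rfl <;> simp, by simpa using congrArg φ h1, ?_⟩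
      rcases h2 with ⟨a0, a1, a2, a3, a4⟩ | ⟨a0, a1, a2, a3, a4⟩
      · refine Or.inl ⟨by simpa [map_ofNat] using hne a0, by simpa [map_ofNat] using hne a1, by simpa [map_ofNat] using hne a2,
          by simpa [map_ofNat] using hne a3, by simpa [map_ofNat] using hne a4⟩
      · refine Or.inr ⟨by simpa [map_ofNat] using hne a0, by simpa [map_ofNat] using hne a1, by simpa [map_ofNat] using hne a2,
          by simpa [map_ofNat] using hne a3, by simpa [map_ofNat] using hne a4⟩

/-- The possible orders of a finite field other than `2, 3, 5`. -/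
lemma field_card_cases (h4 : 4 ≤ Nat.card F) (h5 : Nat.card F ≠ 5) :
    (13 ≤ Nat.card F ∨ Nat.card F = 8) ∨ Nat.card F = 4 ∨ Nat.card F = 7 ∨ Nat.card F = 9 ∨ Nat.card F = 11 := by
  have : Fintype F := Fintype.ofFinite F
  have hpp : IsPrimePow (Nat.card F) := by
    rw [Nat.card_eq_fintype_card]; exact Fintype.isPrimePow_card_of_field
  by_contra hcon
  push Not at hcon
  have h6 : ¬ IsPrimePow 6 := by
    rw [isPrimePow_nat_iff_bounded_log]; decide +kernel
  have h10 : ¬ IsPrimePow 10 := by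
    rw [isPrimePow_nat_iff_bounded_log]; decide +kernel
  have h12 : ¬ IsPrimePow 12 := by
    rw [isPrimePow_nat_iff_bounded_log]; decide +kernel
  have : Nat.card F = 6 ∨ Nat.card F = 10 ∨ Nat.card F = 12 := by omega
  rcases this with e | e | e <;> rw [e] at hpp
  · exact h6 hpp
  · exact h10 hpp
  · exact h12 hpp

lemma two_ne_zero_of_card_odd (h : Odd (Nat.card F)) : (2 : F) ≠ 0 := by
  have : Fintype F := Fintype.ofFinite F
  exact two_ne_zero_of_odd (by rwa [← Nat.card_eq_fintype_card])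

omit [Finite F] in
lemma tr_commutator_triangle {X Y : SL₂F} {e : F} (hY : tr Y = tr X) (he : tr (X⁻¹ * Y) = e) :
    tr (X * Y * X⁻¹ * Y⁻¹) - 2 = 2 * tr X ^ 2 + (tr X ^ 2 - e) ^ 2 - tr X ^ 2 * (tr X ^ 2 - e) - 4 := by
  have h1 := tr_mul_add X Y
  rw [hY, he] at h1
  rw [tr_commutator, hY, show tr (X * Y) = tr X ^ 2 - e by linear_combination h1]
  ring

omit [Finite F] in
lemma tr_mul_triangle {X Y : SL₂F} {e : F} (hY : tr Y = tr X) (he : tr (X⁻¹ * Y) = e) :
    tr (X * Y) = tr X * tr X - e ∧ tr (X * (X * Y)) = tr X * (tr X * tr X - e) - tr X := by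
  have h1 := tr_mul_add X Y
  rw [hY, he] at h1
  have h2 : tr (X * Y) = tr X * tr X - e := by linear_combination h1
  exact ⟨h2, by rw [tr_sq_mul, h2, hY]⟩

/-- No proper subgroup contains the torus and all triangles of a semisimple class, odd case. -/
theorem eq_top_ss_odd {K : Subgroup PSL₂F} (h4 : 4 ≤ Nat.card F) (h5 : Nat.card F ≠ 5) (h2 : (2 : F) ≠ 0)
    {t : F} (ht0 : t ≠ 0) (ht : t ^ 2 ≠ 4)
    (hX : ∀ g : SL₂F, g * companion t = companion t * g → proj g ∈ K)
    (hY : ∀ Y : SL₂F, tr Y = t → (tr ((companion t)⁻¹ * Y) = t ∨ tr ((companion t)⁻¹ * Y) = -t) → proj Y ∈ K) :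
    K = ⊤ := by
  classical
  set X := companion t with hXdef
  have htX : tr X = t := tr_companion t
  have hXK : proj X ∈ K := hX X rfl
  -- an irreducible triangle
  obtain ⟨Y, hYK, hYt, hirr⟩ : ∃ Y : SL₂F, proj Y ∈ K ∧ tr Y = t ∧ tr (X * Y * X⁻¹ * Y⁻¹) ≠ 2 := by
    by_cases h1 : t + 1 = 0
    · obtain ⟨Y, h1', h2'⟩ := exists_triangle (X := X) (by rwa [htX]) t (-t)
      refine ⟨Y, hY Y h1' (Or.inr h2'), h1', fun h => ?_⟩
      have := tr_commutator_triangle (by rw [h1', htX]) h2'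
      rw [h, htX, eq_neg_of_add_eq_zero_left h1] at this
      exact h2 (by linear_combination this)
    · obtain ⟨Y, h1', h2'⟩ := exists_triangle (X := X) (by rwa [htX]) t t
      refine ⟨Y, hY Y h1' (Or.inl h2'), h1', fun h => ?_⟩
      have := tr_commutator_triangle (by rw [h1', htX]) h2'
      rw [h, htX] at this
      have hfac : (t - 2) * ((t - 2) * (t + 1)) = 0 := by linear_combination this
      have ht2 : t - 2 ≠ 0 := fun e => ht (by rw [sub_eq_zero.1 e]; norm_num)
      rcases mul_eq_zero.1 hfac with e | e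
      · exact ht2 e
      · rcases mul_eq_zero.1 e with e | e
        · exact ht2 e
        · exact h1 e
  have key : ∀ z z' : SL₂F, proj z ∈ K → proj z' ∈ K → 5 ≤ orderOf (proj z) →
      (∀ r : ℕ, 2 ≤ r → r * r ≤ Nat.card F → r + 1 < orderOf (proj z)) →
      (6 ≤ orderOf (proj z') ∨ orderOf (proj z') = 4) → K = ⊤ := fun z z' hz hz' a b c =>
    eq_top_of_pair hXK hYK (by rwa [htX]) (by rwa [hYt]) hirr hz hz' a b (c.elim Or.inl fun e => Or.inr (Or.inl e))
  have hsc : Nat.card F = 7 ∨ Nat.card F = 11 → K = ⊤ := by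
    intro hq
    have hsmall : ∀ z : SL₂F, proj z ∈ K → z ∉ Subgroup.center SL₂F → BigTrace (tr z) → K = ⊤ := fun z hz hc hb => by
      have h6 := bigTrace_orderOf hc hb
      refine key z z hz hz (by omega) (fun r hr hrq => ?_) (Or.inl h6)
      have : r ≤ 3 := by
        by_contra hh
        have := Nat.mul_le_mul (show 4 ≤ r by omega) (show 4 ≤ r by omega)
        omega
      omega
    obtain ⟨p, s, hps⟩ := small_arith (F := F) (by omega) t ht0 ht
    rcases hps with ⟨hs, hdet, hb⟩ | ⟨e, he, hdet, hz⟩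
    · obtain ⟨g, hg⟩ : ∃ g : SL₂F, (g : M₂) = !![p, -s; s, p + t * s] :=
        ⟨⟨_, by rw [Matrix.det_fin_two_of]; linear_combination hdet⟩, rfl⟩
      refine hsmall g (hX g ?_) (notMem_center_of_entry (by simpa [hg] using hs)) ?_
      · apply Subtype.ext
        simp only [Matrix.SpecialLinearGroup.coe_mul, hg, hXdef, companion_coe]
        ext i j; fin_cases i <;> fin_cases j <;> simp [Matrix.mul_apply, Fin.sum_univ_two] <;> ring
      · convert hb using 1
        simp [tr, hg]; ring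
    · obtain ⟨W, hW⟩ : ∃ W : SL₂F, (W : M₂) = !![p, t * p + s - e; s, t - p] :=
        ⟨⟨_, by rw [Matrix.det_fin_two_of]; linear_combination hdet⟩, rfl⟩
      have hWt : tr W = tr X := by rw [htX]; simp [tr, hW]
      have hXW : tr (X * W) = -s + ((t * p + s - e) + t * (t - p)) := by
        rw [tr, Matrix.SpecialLinearGroup.coe_mul, hW, hXdef, companion_coe]
        simp [Matrix.mul_apply, Fin.sum_univ_two]
      have hinv : tr (X⁻¹ * W) = e := by
        have h3 := tr_mul_add X W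
        rw [hXW, hWt, htX] at h3
        linear_combination h3
      have hWK : proj W ∈ K := hY W (hWt.trans htX) (he.imp (hinv.trans ·) (hinv.trans ·))
      obtain ⟨ha, hb'⟩ := tr_mul_triangle hWt hinv
      rw [htX] at ha hb'
      rcases hz with ⟨hn, hb⟩ | ⟨hn, hb⟩
      · refine hsmall (X * W) (by rw [map_mul]; exact mul_mem hXK hWK) (notMem_center_of_entry ?_) (ha ▸ hb)
        rw [Matrix.SpecialLinearGroup.coe_mul, hW, hXdef, companion_coe]
        simpa [Matrix.mul_apply, Fin.sum_univ_two] using hn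
      · refine hsmall (X * (X * W)) (by rw [map_mul, map_mul]; exact mul_mem hXK (mul_mem hXK hWK))
          (notMem_center_of_entry ?_) (hb' ▸ hb)
        rw [Matrix.SpecialLinearGroup.coe_mul, Matrix.SpecialLinearGroup.coe_mul, hW, hXdef, companion_coe]
        simpa [Matrix.mul_apply, Fin.sum_univ_two] using hn
  rcases field_card_cases h4 h5 with hbig | hq | hq | hq | hq
  · obtain ⟨g, hg, h6, hr⟩ := exists_big (X := X) (by rwa [htX]) hbig
    exact key g g (hX g hg) (hX g hg) (by omega) hr (Or.inl h6)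
  · exact absurd (by
      have : Fintype F := Fintype.ofFinite F
      have h := cast_card_zero (F := F)
      rw [hq] at h
      exact mul_self_eq_zero.1 (by linear_combination h)) h2
  · exact hsc (Or.inl hq)
  rotate_left
  · exact hsc (Or.inr hq)
  -- nine elements
  have : Fintype F := Fintype.ofFinite F
  have h3 : (3 : F) = 0 := by
    have h := cast_card_zero (F := F)
    rw [hq] at h
    exact mul_self_eq_zero.1 (by linear_combination h)
  have h8 : t ^ 8 = 1 := by
    have := FiniteField.pow_card_sub_one_eq_one t ht0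
    rwa [← Nat.card_eq_fintype_card, hq] at this
  have hR : ∀ {z : SL₂F}, orderOf (proj z) = 5 →
      ∀ r : ℕ, 2 ≤ r → r * r ≤ Nat.card F → r + 1 < orderOf (proj z) := by
    intro z hz r hr hrq
    rw [hz]
    rw [hq] at hrq
    have : r ≤ 3 := by nlinarith
    omega
  have hXc : X ∉ Subgroup.center SL₂F := notMem_center_of_tr (by rwa [htX])
  have irr : ∀ e : F, (e = t ∨ e = -t) → ∀ z₁ : SL₂F, tr (X⁻¹ * z₁) = t → tr (X⁻¹ * (X⁻¹ * z₁)) = e →
      tr (X * (X⁻¹ * z₁) * X⁻¹ * (X⁻¹ * z₁)⁻¹) ≠ 2 := by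
    intro e he z₁ a1 a2 h
    have := tr_commutator_triangle (a1.trans htX.symm) a2
    rw [h, htX] at this
    have h14 : t ^ 2 ≠ 1 := fun h1 => ht (by linear_combination h1 - h3)
    rcases he with rfl | rfl
    · have hfac : (e - 2) * (e - 2) * (e + 1) = 0 := by linear_combination this
      rcases mul_eq_zero.1 hfac with g | g
      · exact ht (by rcases mul_eq_zero.1 g with g | g <;> rw [sub_eq_zero.1 g] <;> norm_num)
      · exact h14 (by linear_combination (e - 1) * g)
    · have hfac : (t + 2) * (t + 2) * (t - 1) = 0 := by linear_combination -this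
      rcases mul_eq_zero.1 hfac with g | g
      · exact ht (by rcases mul_eq_zero.1 g with g | g <;> linear_combination (t - 2) * g)
      · exact h14 (by linear_combination (t + 1) * g)
  have tri' : ∀ e : F, (e = t ∨ e = -t) → ∃ W : SL₂F, proj (X * W) ∈ K ∧ proj (X * (X * W)) ∈ K ∧
      tr (X * W) = t * t - e ∧ tr (X * (X * W)) = t * (t * t - e) - t ∧
      X * W ∉ Subgroup.center SL₂F ∧ X * (X * W) ∉ Subgroup.center SL₂F := by
    intro e he
    obtain ⟨W, hW1, hW2⟩ := exists_triangle (X := X) (by rwa [htX]) t e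
    obtain ⟨hab, hbb⟩ := tr_mul_triangle (hW1.trans htX.symm) hW2
    rw [htX] at hab hbb
    have hWK : proj W ∈ K := hY W hW1 (he.imp (hW2.trans ·) (hW2.trans ·))
    have h := irr e he (X * W) (by rw [inv_mul_cancel_left, hW1]) (by rw [inv_mul_cancel_left, hW2])
    rw [inv_mul_cancel_left] at h
    obtain ⟨c1, c2⟩ := notMem_center_mul_of_irr h
    exact ⟨W, by rw [map_mul]; exact mul_mem hXK hWK,
      by rw [map_mul, map_mul]; exact mul_mem hXK (mul_mem hXK hWK), hab, hbb, c1, c2⟩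
  have hfac : (t ^ 2 + 1) * (t ^ 4 + 1) = 0 := by
    have h14 : t ^ 2 - 1 ≠ 0 := fun h1 => ht (by linear_combination h1 - h3)
    exact mul_left_cancel₀ h14 (by linear_combination h8)
  rcases mul_eq_zero.1 hfac with h | h
  · -- `X` has order four, a product has order five
    obtain ⟨W, hz, -, ha, -, hc, -⟩ := tri' t (Or.inl rfl)
    have h5' : orderOf (proj (X * W)) = 5 := orderOf_eq_five hc (by
      rw [ha]
      linear_combination ((4) * t ^ 0 + (6) * t ^ 1 + (-7) * t ^ 2 + (0) * t ^ 3 + (5) * t ^ 4 + (-4) * t ^ 5 + (1) * t ^ 6) * h + ((-1) + (-2) * t) * h3)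
    have h4' : orderOf (proj X) = 4 := orderOf_eq_four hXc (by rwa [htX]) (by
      rw [htX]; linear_combination h - h3)
    exact key _ _ hz hXK h5'.ge (hR h5') (Or.inr h4')
  · -- `X` has order five, a product has order four
    have h5' : orderOf (proj X) = 5 := orderOf_eq_five hXc (by
      rw [htX]; linear_combination h - t ^ 2 * h3)
    have hsplit : (t ^ 2 + t - 1) * (t ^ 2 - t - 1) = 0 := by linear_combination h - t ^ 2 * h3
    rcases mul_eq_zero.1 hsplit with g | g
    · obtain ⟨W, -, hz, -, hb, -, hc⟩ := tri' t (Or.inl rfl)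
      have hb' : tr (X * (X * W)) = t ^ 2 := by
        rw [hb]; linear_combination (t - 3) * g + (t - 1) * h3
      exact key _ _ hXK hz h5'.ge (hR h5') (Or.inr (orderOf_eq_four hc
        (by rw [hb']; exact pow_ne_zero 2 ht0) (by rw [hb']; linear_combination h - h3)))
    · obtain ⟨W, -, hz, -, hb, -, hc⟩ := tri' (-t) (Or.inr rfl)
      have hb' : tr (X * (X * W)) = -t ^ 2 := by
        rw [hb]; linear_combination (t + 3) * g + (t + 1) * h3
      exact key _ _ hXK hz h5'.ge (hR h5') (Or.inr (orderOf_eq_four hc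
        (by rw [hb']; exact neg_ne_zero.2 (pow_ne_zero 2 ht0)) (by rw [hb']; linear_combination h - h3)))

omit [Finite F] in
lemma exists_lin {Y : SL₂F} (hY : tr Y = 0) {p s : F} (h : p ^ 2 + s ^ 2 = 1) :
    ∃ g : SL₂F, (g : M₂) = p • (1 : M₂) + s • (Y : M₂) ∧ g * Y = Y * g ∧ tr g = 2 * p := by
  refine ⟨⟨p • (1 : M₂) + s • (Y : M₂), by rw [det_lin, hY]; linear_combination h⟩, rfl, ?_, ?_⟩
  · apply Subtype.ext
    show (p • (1 : M₂) + s • (Y : M₂)) * (Y : M₂) = (Y : M₂) * (p • (1 : M₂) + s • (Y : M₂))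
    simp [add_mul, mul_add]
  · have : (Y : M₂) 0 0 + (Y : M₂) 1 1 = 0 := hY
    simp only [tr]
    show (p • (1 : M₂) + s • (Y : M₂)) 0 0 + (p • (1 : M₂) + s • (Y : M₂)) 1 1 = 2 * p
    simp [Matrix.add_apply]
    linear_combination s * this

omit [Finite F] in
lemma lin_coe {u v p s : F} {Y g : SL₂F} (hY : (Y : M₂) = !![u, v; v, -u])
    (hg : (g : M₂) = p • (1 : M₂) + s • (Y : M₂)) : (g : M₂) = !![p + s * u, s * v; s * v, p - s * u] := by
  rw [hg, hY]
  ext i j; fin_cases i <;> fin_cases j <;> simp <;> ring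

/-- No proper subgroup contains the tori of an involution and of those commuting with it. -/
theorem eq_top_inv_odd {K : Subgroup PSL₂F} (h4 : 4 ≤ Nat.card F) (h5 : Nat.card F ≠ 5) (h2 : (2 : F) ≠ 0)
    (hJ : ∀ g : SL₂F, g * companion 0 = companion 0 * g → proj g ∈ K)
    (hK : ∀ Y g : SL₂F, tr Y = 0 → tr ((companion 0)⁻¹ * Y) = 0 → g * Y = Y * g → proj g ∈ K) :
    K = ⊤ := by
  classical
  set J : SL₂F := companion 0 with hJdef
  have htJ : tr J = 0 := tr_companion 0
  have htJ4 : tr J ^ 2 ≠ 4 := by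
    rw [htJ, zero_pow two_ne_zero]
    intro h
    exact h2 (mul_self_eq_zero.1 (by linear_combination -h))
  have mkY : ∀ u v : F, u ^ 2 + v ^ 2 = -1 → ∃ Y : SL₂F, (Y : M₂) = !![u, v; v, -u] ∧ tr Y = 0 ∧
      tr (J⁻¹ * Y) = 0 := by
    intro u v huv
    obtain ⟨Y, hY⟩ : ∃ Y : SL₂F, (Y : M₂) = !![u, v; v, -u] :=
      ⟨⟨_, by rw [Matrix.det_fin_two_of]; linear_combination -huv⟩, rfl⟩
    have h1 : tr Y = 0 := by simp [tr, hY]
    have h3 := tr_mul_add J Y
    have h4 : tr (J * Y) = 0 := by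
      rw [tr, Matrix.SpecialLinearGroup.coe_mul, hY, hJdef, companion_coe]
      simp [Matrix.mul_apply, Fin.sum_univ_two]
    rw [h1, h4, zero_add, mul_zero] at h3
    exact ⟨Y, hY, h1, h3⟩
  have gJ : ∀ p s : F, p ^ 2 + s ^ 2 = 1 → ∃ g : SL₂F, (g : M₂) = !![p, -s; s, p] ∧ proj g ∈ K ∧ tr g = 2 * p := by
    intro p s h
    obtain ⟨g, hg, hc, ht⟩ := exists_lin htJ h
    refine ⟨g, ?_, hJ g hc, ht⟩
    rw [hg, hJdef, companion_coe]
    ext i j; fin_cases i <;> fin_cases j <;> simp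
  have main : ∀ p s : F, p ≠ 0 → s ≠ 0 → p ^ 2 + s ^ 2 = 1 → ∀ z z' : SL₂F, proj z ∈ K → proj z' ∈ K →
      5 ≤ orderOf (proj z) → (∀ r : ℕ, 2 ≤ r → r * r ≤ Nat.card F → r + 1 < orderOf (proj z)) →
      (6 ≤ orderOf (proj z') ∨ orderOf (proj z') = 4) → K = ⊤ := by
    intro p s hp hs h z z' hz hz' a b c
    obtain ⟨u, v, huv⟩ := exists_norm_eq (t := (0 : F)) (by
      rw [zero_pow two_ne_zero]; exact fun e => h2 (mul_self_eq_zero.1 (by linear_combination -e)))
      (neg_ne_zero.2 (one_ne_zero (α := F)))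
    obtain ⟨Y, hY, hY0, hJY⟩ := mkY u v (by linear_combination huv)
    obtain ⟨g, hg, hgK, hgt⟩ := gJ p s h
    obtain ⟨g', hg', hgc', hgt'⟩ := exists_lin hY0 h
    have h2p : (2 : F) * p ≠ 0 := mul_ne_zero h2 hp
    refine eq_top_of_pair hgK (hK Y g' hY0 hJY hgc') (hgt ▸ h2p) (hgt' ▸ h2p) ?_ hz hz' a b
      (c.elim Or.inl fun e => Or.inr (Or.inl e))
    intro hbad
    have hgg : tr (g * g') = 2 * p ^ 2 := by
      rw [tr, Matrix.SpecialLinearGroup.coe_mul, hg, lin_coe hY hg']
      simp [Matrix.mul_apply, Fin.sum_univ_two]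
      ring
    rw [tr_commutator, hgg, hgt, hgt'] at hbad
    have hs4 : (2 : F) * 2 * (s ^ 2 * s ^ 2) = 0 := by
      linear_combination -hbad + 4 * (s ^ 2 + 1 - p ^ 2) * h
    exact mul_ne_zero (mul_ne_zero h2 h2) (mul_ne_zero (pow_ne_zero 2 hs) (pow_ne_zero 2 hs)) hs4
  have hR6 : ∀ {n : ℕ}, 6 ≤ n → Nat.card F = 7 ∨ Nat.card F = 11 →
      ∀ r : ℕ, 2 ≤ r → r * r ≤ Nat.card F → r + 1 < n := by
    intro n hn hq r hr hrq
    have : r ≤ 3 := by
      by_contra hh
      have := Nat.mul_le_mul (show 4 ≤ r by omega) (show 4 ≤ r by omega)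
      omega
    omega
  rcases field_card_cases h4 h5 with hbig | hq | hq | hq | hq
  · obtain ⟨g, hgc, h6, hr⟩ := exists_big (X := J) htJ4 hbig
    obtain ⟨p, s, hps⟩ := (mem_centralizer_singleton_iff' (notMem_center_of_tr htJ4) g).1
      (Subgroup.mem_centralizer_singleton_iff.2 hgc)
    have hdet : p ^ 2 + s ^ 2 = 1 := by
      have hd := g.2
      rw [hps, det_lin, htJ] at hd
      linear_combination hd
    have hgK := hJ g hgc
    refine main p s ?_ ?_ hdet g g hgK hgK (by omega) hr (Or.inl h6)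
    · rintro rfl
      have hs2 : orderOf (proj g) ≤ 2 := by
        refine Nat.le_of_dvd two_pos (orderOf_dvd_of_pow_eq_one ?_)
        rw [← map_pow, proj_eq_one_iff, mem_center_iff_isScalarMat, isScalarMat_iff]
        refine ⟨-1, ?_⟩
        rw [pow_two, Matrix.SpecialLinearGroup.coe_mul, mul_self_eq]
        have : tr g = 0 := by simp [tr, hps, hJdef, companion_coe]
        rw [this]; simp
      omega
    · rintro rfl
      have : proj g = 1 := by
        rw [proj_eq_one_iff, mem_center_iff_isScalarMat, isScalarMat_iff]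
        exact ⟨p, by rw [hps, zero_smul, add_zero]⟩
      rw [this, orderOf_one] at h6
      omega
  · exact absurd (by
      have h := cast_card_zero (F := F)
      rw [hq] at h
      exact mul_self_eq_zero.1 (by linear_combination h)) h2
  · have h7 : (7 : F) = 0 := by
      have h := cast_card_zero (F := F)
      rw [hq] at h
      exact_mod_cast h
    have h3 : (3 : F) ≠ 0 := fun e => one_ne_zero (α := F) (by linear_combination h7 - 2 * e)
    obtain ⟨g, hg, hgK, -⟩ := gJ 2 2 (by linear_combination h7)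
    obtain ⟨Y, hY, hY0, hJY⟩ := mkY 2 3 (by linear_combination 2 * h7)
    obtain ⟨Y', hY', hY'0, hJY'⟩ := mkY (-2) 3 (by linear_combination 2 * h7)
    obtain ⟨g₁, hg₁, hg₁c, -⟩ := exists_lin hY0 (p := 2) (s := 2) (by linear_combination h7)
    obtain ⟨g₂, hg₂, hg₂c, -⟩ := exists_lin hY'0 (p := 2) (s := 2) (by linear_combination h7)
    set z := g * g₂ * g₁ with hz
    have hzK : proj z ∈ K := by
      rw [hz, map_mul, map_mul]
      exact mul_mem (mul_mem hgK (hK Y' g₂ hY'0 hJY' hg₂c)) (hK Y g₁ hY0 hJY hg₁c)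
    have hzm : (z : M₂) = !![-96, -96; 192, 0] := by
      rw [hz, Matrix.SpecialLinearGroup.coe_mul, Matrix.SpecialLinearGroup.coe_mul, hg, lin_coe hY' hg₂,
        lin_coe hY hg₁]
      ext i j; fin_cases i <;> fin_cases j <;> simp [Matrix.mul_apply, Fin.sum_univ_two] <;> ring
    have hzt : tr z = 2 := by
      simp [tr, hzm]
      linear_combination -14 * h7
    have hzc : z ∉ Subgroup.center SL₂F := notMem_center_of_entry (by
      simp [hzm]
      intro e
      exact h3 (by linear_combination e - 27 * h7))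
    have h6 := bigTrace_orderOf hzc (by
      rw [hzt]
      refine ⟨h2, fun e => h3 (by linear_combination e), fun e => h2 (by linear_combination e),
        fun e => one_ne_zero (α := F) (by linear_combination 3 * e - 2 * h7)⟩)
    exact main 2 2 h2 h2 (by linear_combination h7) z z hzK hzK (by omega) (hR6 h6 (Or.inl hq)) (Or.inl h6)
  · have : Fintype F := Fintype.ofFinite F
    have h3 : (3 : F) = 0 := by
      have h := cast_card_zero (F := F)
      rw [hq] at h
      exact mul_self_eq_zero.1 (by linear_combination h)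
    obtain ⟨i, hi⟩ : IsSquare (-1 : F) := FiniteField.isSquare_neg_one_iff.2 (by
      rw [← Nat.card_eq_fintype_card, hq]; norm_num)
    have hi0 : i ≠ 0 := by rintro rfl; simp at hi
    have hp : i ^ 2 + i ^ 2 = 1 := by linear_combination -2 * hi - h3
    obtain ⟨g, hg, hgK, hgt⟩ := gJ i i hp
    obtain ⟨Y, hY, hY0, hJY⟩ := mkY i 0 (by linear_combination -hi)
    obtain ⟨Y', hY', hY'0, hJY'⟩ := mkY (-1) (-1) (by linear_combination h3)
    obtain ⟨g₁, hg₁, hg₁c, -⟩ := exists_lin hY0 hp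
    obtain ⟨g₂, hg₂, hg₂c, -⟩ := exists_lin hY'0 hp
    have h4' : orderOf (proj g) = 4 := orderOf_eq_four (notMem_center_of_entry (by simpa [hg] using hi0))
      (hgt ▸ mul_ne_zero h2 hi0) (by rw [hgt]; linear_combination -4 * hi - 2 * h3)
    have hzm : ((g₁ * g₂ : SL₂F) : M₂) = !![0, -(i + i * i) * i; -(i - i * i) * i, 2 * i * (i - i * i)] := by
      rw [Matrix.SpecialLinearGroup.coe_mul, lin_coe hY hg₁, lin_coe hY' hg₂]
      ext a b; fin_cases a <;> fin_cases b <;> simp [Matrix.mul_apply, Fin.sum_univ_two] <;> ring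
    have hzt : tr (g₁ * g₂) = 2 * i ^ 2 - 2 * i ^ 3 := by
      simp [tr, hzm]; ring
    have h5' : orderOf (proj (g₁ * g₂)) = 5 := by
      refine orderOf_eq_five (notMem_center_of_entry ?_) ?_
      · simp [hzm]
        refine ⟨fun e => ?_, hi0⟩
        exact h2 (by linear_combination (i - 1) * e + (i - 2) * hi)
      · rw [hzt]
        grind
    refine main i i hi0 hi0 hp (g₁ * g₂) g ?_ hgK h5'.ge ?_ (Or.inr h4')
    · rw [map_mul]; exact mul_mem (hK Y g₁ hY0 hJY hg₁c) (hK Y' g₂ hY'0 hJY' hg₂c)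
    · intro r hr hrq
      have : r ≤ 3 := by rw [hq] at hrq; nlinarith
      omega
  · have h11 : (11 : F) = 0 := by
      have h := cast_card_zero (F := F)
      rw [hq] at h
      exact_mod_cast h
    have hn : ∀ k : ℕ, 0 < k → k < 11 → (k : F) ≠ 0 := by
      intro k hk hk' e
      obtain ⟨p, hp, hchar, -⟩ := exists_charP (F := F)
      have hd : p ∣ 11 := (CharP.cast_eq_zero_iff F p 11).1 (by exact_mod_cast h11)
      rcases (Nat.dvd_prime (by norm_num)).1 hd with h | h
      · exact hp.ne_one h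
      · have := Nat.le_of_dvd hk ((CharP.cast_eq_zero_iff F p k).1 e)
        omega
    have h3 : (3 : F) ≠ 0 := by simpa using hn 3 (by norm_num) (by norm_num)
    have h5f : (5 : F) ≠ 0 := by simpa using hn 5 (by norm_num) (by norm_num)
    obtain ⟨g, hg, hgK, hgt⟩ := gJ 3 5 (by linear_combination 3 * h11)
    have h6 := bigTrace_orderOf (z := g) (notMem_center_of_entry (by simpa [hg] using h5f)) (by
      rw [hgt]
      refine ⟨mul_ne_zero h2 h3, fun e => h2 (by linear_combination e - 3 * h11),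
        fun e => one_ne_zero (α := F) (by linear_combination e - 3 * h11),
        fun e => one_ne_zero (α := F) (by linear_combination e - 108 * h11)⟩)
    exact main 3 5 h3 h5f (by linear_combination 3 * h11) g g hgK hgK (by omega) (hR6 h6 (Or.inr hq)) (Or.inl h6)

/-- No proper subgroup contains the torus of a semisimple element and an irreducible partner, even case. -/
theorem eq_top_ss_even {K : Subgroup PSL₂F} (h4 : 4 ≤ Nat.card F) (h5 : Nat.card F ≠ 5) (h2 : (2 : F) = 0)
    {X Y : SL₂F} (hX0 : tr X ≠ 0) (hX1 : tr X ≠ 1) (hY0 : tr Y ≠ 0)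
    (hX : ∀ g : SL₂F, g * X = X * g → proj g ∈ K) (hY : proj Y ∈ K)
    (hirr : tr (X * Y * X⁻¹ * Y⁻¹) ≠ 2) : K = ⊤ := by
  classical
  have ht : tr X ^ 2 ≠ 4 := fun h => hX0 (pow_eq_zero_iff two_ne_zero |>.1 (by linear_combination h + 2 * h2))
  have hodd : ∀ k : ℕ, Nat.card F = 2 * k + 1 → False := by
    intro k hk
    have h := cast_card_zero (F := F)
    rw [hk] at h
    push_cast at h
    exact one_ne_zero (α := F) (by linear_combination h - (k : F) * h2)
  rcases field_card_cases h4 h5 with hbig | hq | hq | hq | hq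
  · obtain ⟨g, hg, h6, hr⟩ := exists_big ht hbig
    exact eq_top_of_pair (hX X rfl) hY hX0 hY0 hirr (hX g hg) (hX g hg) (by omega) hr (Or.inl h6)
  · have : Fintype F := Fintype.ofFinite F
    have h3 : tr X ^ 3 = 1 := by
      have := FiniteField.pow_card_sub_one_eq_one (tr X) hX0
      rwa [← Nat.card_eq_fintype_card, hq] at this
    have hsum : tr X ^ 2 + tr X + 1 = 0 :=
      mul_left_cancel₀ (sub_ne_zero.2 hX1) (by linear_combination h3)
    have h5' : orderOf (proj X) = 5 := orderOf_eq_five (notMem_center_of_tr ht) (by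
      linear_combination (tr X ^ 2 + tr X + 1) * hsum - (tr X ^ 3 + 3 * tr X ^ 2 + tr X) * h2)
    refine eq_top_of_pair (hX X rfl) hY hX0 hY0 hirr (hX X rfl) (hX X rfl) h5'.ge (fun r hr hrq => ?_)
      (Or.inr (Or.inr ?_))
    · have : r ≤ 2 := by rw [hq] at hrq; nlinarith
      omega
    · rw [card_PSL, hq]; norm_num
  · exact (hodd 3 hq).elim
  · exact (hodd 4 hq).elim
  · exact (hodd 5 hq).elim

end CfsgLib.SL2.Binary
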