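import Mathlib
import Cfsg.Agent.Lib.SL2.BinaryCore
import Cfsg.Agent.Lib.SL2.BinaryWitness

/-!
# The binary coset actions of `PSL₂(q)`
-/

set_option autoImplicit false

open Matrix
open scoped MatrixGroups
open CfsgLib.ClassicalLinear (upS upS_coe upS_add)
open CfsgLib.Suzuki (BinRep binRep_map_iff binRep_bot)

namespace CfsgLib.SL2.Binary

open CfsgLib.SL2.Dickson

variable {F : Type*} [Field F]

local notation "SL₂F" => Matrix.SpecialLinearGroup (Fin 2) F
local notation "PSL₂F" => Matrix.ProjectiveSpecialLinearGroup (Fin 2) F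
local notation "M₂" => Matrix (Fin 2) (Fin 2) F

lemma proj_neg (Y : SL₂F) : proj (-Y) = proj Y := by
  rw [show -Y = (-1 : SL₂F) * Y by simp, map_mul, (proj_eq_one_iff _).2 neg_one_mem_center, one_mul]

lemma upS_neg_inv (x : F) : (upS x)⁻¹ = upS (-x) := by
  rw [inv_eq_iff_mul_eq_one, ← upS_add, add_neg_cancel, upS_zero]

lemma eq_top_of_lift {K : Subgroup PSL₂F} (h : lift K = ⊤) : K = ⊤ := by
  rw [eq_top_iff]
  intro g _
  obtain ⟨G, rfl⟩ := proj_surjective g
  exact (h ▸ Subgroup.mem_top G : G ∈ lift K)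

lemma eq_top_of_upper_lower {K : Subgroup PSL₂F} (hu : ∀ b, proj (upS b) ∈ K) (hl : ∀ b, proj (lowS b) ∈ K) :
    K = ⊤ := eq_top_of_lift (eq_top_of_upS_lowS hu hl)

/-- The translations and one element outside the Borel subgroup generate. -/
lemma eq_top_of_upS {K : Subgroup PSL₂F} (hu : ∀ b, proj (upS b) ∈ K) {g : SL₂F} (hg : proj g ∈ K)
    (hc : (g : M₂) 1 0 ≠ 0) : K = ⊤ := by
  set c := (g : M₂) 1 0 with hcdef
  set w := upS (-(g : M₂) 0 0 / c) * g * upS (-(g : M₂) 1 1 / c) with hw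
  have hwK : proj w ∈ K := by
    rw [hw, map_mul, map_mul]; exact mul_mem (mul_mem (hu _) hg) (hu _)
  have hd := det_eq g
  rw [← hcdef] at hd
  have hwm : (w : M₂) = !![0, -1 / c; c, 0] := by
    rw [hw, Matrix.SpecialLinearGroup.coe_mul, Matrix.SpecialLinearGroup.coe_mul, upS_coe, upS_coe,
      Matrix.eta_fin_two (g : M₂)]
    ext i j; fin_cases i <;> fin_cases j <;> simp [Matrix.mul_apply, Fin.sum_univ_two, ← hcdef]
    · field_simp; ring
    · field_simp; linear_combination -hd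
    · field_simp; ring
  refine eq_top_of_upper_lower hu fun b => ?_
  have he : lowS b = w * upS (-b / c ^ 2) * w⁻¹ := by
    rw [eq_mul_inv_iff_mul_eq]
    apply Subtype.ext
    show (lowS b : M₂) * (w : M₂) = (w : M₂) * (upS (-b / c ^ 2) : M₂)
    rw [hwm, upS_coe, lowS_coe]
    ext i j; fin_cases i <;> fin_cases j <;> simp [Matrix.mul_apply, Fin.sum_univ_two] <;> field_simp
  rw [he, map_mul, map_mul, map_inv]
  exact mul_mem (mul_mem hwK (hu _)) (inv_mem hwK)

variable [Finite F]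

lemma conjPM_of_tr {X Y : SL₂F} (ht : tr X ^ 2 ≠ 4) (h : tr Y = tr X ∨ tr Y = -tr X) :
    ConjPM (proj X) (proj Y) := by
  rcases h with h | h
  · exact Or.inl ((proj (F := F)).map_isConj (isConj_of_tr_eq ht h))
  · have := (proj (F := F)).map_isConj (isConj_of_tr_eq (h := -Y) ht (by rw [tr_neg, h, neg_neg]))
    rw [proj_neg] at this
    exact Or.inl this

lemma conjPM_triangle {X Y : SL₂F} (ht : tr X ^ 2 ≠ 4) (h : tr (X⁻¹ * Y) = tr X ∨ tr (X⁻¹ * Y) = -tr X) :
    ConjPM (proj X) ((proj Y)⁻¹ * proj X) := by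
  rw [← map_inv, ← map_mul]
  refine conjPM_of_tr ht ?_
  rw [show Y⁻¹ * X = (X⁻¹ * Y)⁻¹ by group, tr_inv]
  exact h

variable {H : Subgroup (Matrix.ProjectiveSpecialLinearGroup (Fin 2) F)}

lemma normalizer_core_ne_top (h4 : 4 ≤ Nat.card F) (hH : H ≠ ⊤) {x : PSL₂F} (hx : InC H x) (hx1 : x ≠ 1) :
    Subgroup.normalizer (core H x : Set PSL₂F) ≠ ⊤ := by
  intro h
  have := CfsgLib.ClassicalLinear.isSimpleGroup_psl_fin (F := F) le_rfl (fun _ => h4)
  rcases (Subgroup.normalizer_eq_top_iff.1 h).eq_bot_or_eq_top with e | e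
  · exact hx1 (Subgroup.mem_bot.1 (e ▸ self_mem_core x))
  · exact core_ne_top hH hx e

omit [Finite F] in
lemma mem_normalizer_core_of_comm {X g : SL₂F} (h : g * X = X * g) :
    proj g ∈ Subgroup.normalizer (core H (proj X) : Set PSL₂F) :=
  centralizer_le_normalizer_core (by rw [← map_mul, ← map_mul, h])

omit [Finite F] in
lemma upS_mul_comm (a b : F) : upS a * upS b = upS b * upS a := by
  rw [← upS_add, ← upS_add, add_comm]

/-- In odd characteristic only the regular action is binary. -/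
theorem not_binRep_odd (h4 : 4 ≤ Nat.card F) (h5 : Nat.card F ≠ 5) (h2 : (2 : F) ≠ 0) (hbot : H ≠ ⊥)
    (htop : H ≠ ⊤) : ¬ BinRep H := by
  classical
  intro hb
  obtain ⟨h0, hh0, hne0⟩ : ∃ h ∈ H, h ≠ 1 := by
    by_contra! h; exact hbot (by ext; simpa using ⟨h _, fun e => e ▸ one_mem H⟩)
  have : Fintype PSL₂F := Fintype.ofFinite _
  obtain ⟨x, hxS, hxmin⟩ := Finset.exists_min_image
    (Finset.univ.filter fun g : PSL₂F => InC H g ∧ g ≠ 1) (fun g => Nat.card (core H g))
    ⟨h0, by simp [InC.of_mem hh0, hne0]⟩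
  simp only [Finset.mem_filter, Finset.mem_univ, true_and] at hxS hxmin
  obtain ⟨X₀, rfl⟩ := proj_surjective x
  have h44 : (4 : F) ≠ 0 := fun e => mul_ne_zero h2 h2 (by linear_combination e)
  -- conjugating keeps minimality
  have move : ∀ X : SL₂F, IsConj (proj X₀) (proj X) →
      InC H (proj X) ∧ proj X ≠ 1 ∧ (∀ Y : SL₂F, ConjPM (proj X) (proj Y) →
        ConjPM (proj X) ((proj Y)⁻¹ * proj X) → proj Y ∈ core H (proj X)) := by
    intro X hconj
    obtain ⟨c, hc⟩ := isConj_iff.1 hconj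
    have hxI : InC H (proj X) := hc ▸ hxS.1.conj c
    have hx1 : proj X ≠ 1 := by
      rw [← hc]; intro e; exact hxS.2 (by simpa using e)
    refine ⟨hxI, hx1, fun Y hy hz => triangle_core hb hy hz fun g hgx _ hg => ?_⟩
    rw [card_core_of_conjPM (Or.inl hconj : ConjPM (proj X₀) (proj X))]
    exact hxmin g ⟨hxI.of_mem_core hgx, hg⟩
  by_cases ht4 : tr X₀ ^ 2 = 4
  · -- unipotent
    obtain ⟨u, ε, a, hε, hu⟩ := trichotomy ht4
    have hconj : IsConj (proj X₀) (proj (upS a)) := by
      refine isConj_iff.2 ⟨proj u, ?_⟩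
      rw [← map_inv, ← map_mul, ← map_mul, hu, map_mul, (proj_eq_one_iff ε).2 hε, one_mul]
    obtain ⟨hI, h1, htri⟩ := move _ hconj
    have ha : a ≠ 0 := fun e => h1 (by rw [e, upS_zero, map_one])
    have hW : ∃ W : SL₂F, (W : M₂) = !![0, a / 2; -2 / a, 0] :=
      ⟨⟨_, by rw [Matrix.det_fin_two_of]; field_simp; ring⟩, rfl⟩
    obtain ⟨W, hW⟩ := hW
    have e1 : W * upS (-a) = lowS (4 / a) * W := by
      apply Subtype.ext
      rw [Matrix.SpecialLinearGroup.coe_mul, Matrix.SpecialLinearGroup.coe_mul, hW, upS_coe, lowS_coe]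
      ext i j; fin_cases i <;> fin_cases j <;> simp [Matrix.mul_apply, Fin.sum_univ_two] <;> field_simp <;> ring
    have e2 : lowS (-2 / a) * upS (-a) = -((lowS (4 / a))⁻¹ * upS a) * lowS (-2 / a) := by
      have hinv : (lowS (4 / a))⁻¹ = lowS (-4 / a) := by
        rw [inv_eq_iff_mul_eq_one, ← lowS_add, ← add_div, add_neg_cancel, zero_div, lowS_zero]
      rw [hinv]
      apply Subtype.ext
      rw [Matrix.SpecialLinearGroup.coe_mul, Matrix.SpecialLinearGroup.coe_mul,
        Matrix.SpecialLinearGroup.coe_neg, Matrix.SpecialLinearGroup.coe_mul, lowS_coe, lowS_coe, upS_coe, upS_coe]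
      ext i j; fin_cases i <;> fin_cases j <;> simp [Matrix.mul_apply, Fin.sum_univ_two] <;> field_simp <;> ring
    have hy := htri (lowS (4 / a)) (Or.inr (isConj_iff.2 ⟨proj W, by
        rw [← map_inv, ← map_inv, upS_neg_inv, ← map_mul, ← map_mul, e1, mul_inv_cancel_right]⟩))
      (Or.inr (isConj_iff.2 ⟨proj (lowS (-2 / a)), by
        rw [← map_inv, ← map_inv, ← map_inv, upS_neg_inv, ← map_mul, ← map_mul, ← map_mul, e2,
          mul_inv_cancel_right, proj_neg]⟩))
    refine normalizer_core_ne_top h4 htop hI h1 (eq_top_of_upS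
      (fun b => mem_normalizer_core_of_comm (upS_mul_comm b a)) (Subgroup.le_normalizer hy) ?_)
    simp [lowS_coe, ha, h44]
  · have hconj : IsConj (proj X₀) (proj (companion (tr X₀))) :=
      ((proj (F := F)).map_isConj (isConj_companion ht4)).symm
    obtain ⟨hI, h1, htri⟩ := move _ hconj
    have htc : tr (companion (tr X₀)) ^ 2 ≠ 4 := by rwa [tr_companion]
    by_cases ht0 : tr X₀ = 0
    · rw [ht0] at hI h1 htri htc
      refine normalizer_core_ne_top h4 htop hI h1 (eq_top_inv_odd h4 h5 h2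
        (fun g hg => mem_normalizer_core_of_comm hg) fun Y g hY hJY hg => ?_)
      have hy := htri Y (conjPM_of_tr htc (Or.inl (by rw [hY, tr_companion])))
        (conjPM_triangle htc (Or.inl (by rw [hJY, tr_companion])))
      have := core_eq_of_mem_of_card_le hy (le_of_eq (card_core_of_conjPM
        (conjPM_of_tr htc (Or.inl (by rw [hY, tr_companion])))).symm)
      rw [← this]
      exact mem_normalizer_core_of_comm hg
    · refine normalizer_core_ne_top h4 htop hI h1 (eq_top_ss_odd h4 h5 h2 ht0 ht4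
        (fun g hg => mem_normalizer_core_of_comm hg) fun Y hY hs => Subgroup.le_normalizer (htri Y
          (conjPM_of_tr htc (Or.inl (by rw [hY, tr_companion])))
          (conjPM_triangle htc (by rwa [tr_companion]))))

omit [Finite F] in
lemma four_eq_zero (h2 : (2 : F) = 0) : (4 : F) = 0 := by linear_combination 2 * h2

omit [Finite F] in
lemma center_eq_one (h2 : (2 : F) = 0) {z : SL₂F} (hz : z ∈ Subgroup.center SL₂F) : z = 1 := by
  rwa [center_eq_bot_of_two h2, Subgroup.mem_bot] at hz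

omit [Finite F] in
lemma proj_injective_two (h2 : (2 : F) = 0) : Function.Injective (proj (F := F)) := by
  rw [injective_iff_map_eq_one]
  exact fun z hz => center_eq_one h2 ((proj_eq_one_iff z).1 hz)

omit [Finite F] in
lemma tr_eq_one_of_cube (h2 : (2 : F) = 0) {g : SL₂F} (h3 : proj g ^ 3 = 1) (h1 : proj g ≠ 1) : tr g = 1 := by
  have hc : g ∉ Subgroup.center SL₂F := fun h => h1 ((proj_eq_one_iff g).2 h)
  obtain ⟨c, hg⟩ := pow_coeffs g 3 (by simp)
  have := (proj_pow_eq_one hc hg).1 h3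
  norm_num at this
  refine sub_eq_zero.1 (mul_self_eq_zero.1 ?_)
  linear_combination this + (1 - tr g) * h2

omit [Finite F] in
lemma cube_of_tr_eq_one (h2 : (2 : F) = 0) {g : SL₂F} (ht : tr g = 1) : proj g ^ 3 = 1 := by
  have hc : g ∉ Subgroup.center SL₂F := notMem_center_of_tr (by
    rw [ht, four_eq_zero h2]; norm_num)
  obtain ⟨c, hg⟩ := pow_coeffs g 3 (by simp)
  exact (proj_pow_eq_one hc hg).2 (by norm_num [ht])

omit [Finite F] in
lemma no_root_iff (h2 : (2 : F) = 0) :
    (∀ l : F, l ^ 2 + l + 1 ≠ 0) ↔ ¬ ∃ l : F, l * l = 1 * l - 1 := by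
  constructor
  · rintro h ⟨l, hl⟩; exact h l (by linear_combination hl + l * h2)
  · intro h l hl; exact h ⟨l, by linear_combination hl - l * h2⟩

omit [Finite F] in
lemma not_cube_of_borel (h2 : (2 : F) = 0) (hexc : ∀ l : F, l ^ 2 + l + 1 ≠ 0) {g : SL₂F}
    (hg : (g : M₂) 1 0 = 0) (h1 : proj g ≠ 1) : proj g ^ 3 ≠ 1 := by
  intro h3
  have ht := tr_eq_one_of_cube h2 h3 h1
  have hd := det_eq g
  rw [hg, mul_zero] at hd
  simp only [tr] at ht
  refine hexc ((g : M₂) 0 0) ?_
  linear_combination (g : M₂) 0 0 * ht - hd + (1 : F) * h2 * (g : M₂) 0 0 - (g : M₂) 0 0 * h2 * 0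

omit [Finite F] in
lemma isConj_upS (h2 : (2 : F) = 0) [Finite F] {a b : F} (ha : a ≠ 0) (hb : b ≠ 0) :
    IsConj (proj (upS a)) (proj (upS b)) := by
  have hchar : ringChar F = 2 := by
    obtain ⟨p, hp, hchar, -⟩ := exists_charP (F := F)
    have hd : p ∣ 2 := (CharP.cast_eq_zero_iff F p 2).1 (by exact_mod_cast h2)
    rw [ringChar.eq F p]
    exact (Nat.prime_dvd_prime_iff_eq hp Nat.prime_two).1 hd
  obtain ⟨s, hs⟩ := FiniteField.isSquare_of_char_two hchar (b / a)
  have hs0 : s ≠ 0 := by rintro rfl; exact div_ne_zero hb ha (by simpa using hs)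
  refine isConj_iff.2 ⟨proj (diag (Units.mk0 s hs0)), ?_⟩
  rw [← map_inv, ← map_mul, ← map_mul, conj_diag_upS]
  congr 2
  simp only [Units.val_mk0]
  rw [pow_two, ← hs, div_mul_cancel₀ _ ha]

/-- In even characteristic a binary action has a point stabiliser of one of two kinds. -/
theorem binRep_even_cases (h4 : 4 ≤ Nat.card F) (h5 : Nat.card F ≠ 5) (h2 : (2 : F) = 0) (hb : BinRep H)
    (hbot : H ≠ ⊥) (htop : H ≠ ⊤) :
    (∃ k : PSL₂F, ∀ g, g ∈ H ↔ ∃ b, k * g * k⁻¹ = proj (upS b)) ∨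
      ((∀ l : F, l ^ 2 + l + 1 ≠ 0) ∧ Nat.card H = 3) := by
  classical
  let S : PSL₂F → Prop := fun g => g ≠ 1 ∧ ((∀ l : F, l ^ 2 + l + 1 ≠ 0) → g ^ 3 ≠ 1)
  by_cases hex : ∃ g, InC H g ∧ S g
  swap
  · -- an elementary group of order three
    right
    push Not at hex
    have key : ∀ g ∈ H, g ≠ 1 → (∀ l : F, l ^ 2 + l + 1 ≠ 0) ∧ g ^ 3 = 1 := fun g hg h1 => by
      have := hex g (InC.of_mem hg)
      simp only [S, not_and, Classical.not_imp, not_not] at this
      exact this h1
    obtain ⟨b, hbH, hb1⟩ : ∃ h ∈ H, h ≠ 1 := by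
      by_contra! h; exact hbot (by ext; simpa using ⟨h _, fun e => e ▸ one_mem H⟩)
    refine ⟨(key b hbH hb1).1, ?_⟩
    have heq : H = Subgroup.zpowers b := by
      refine le_antisymm (fun c hc => ?_) (Subgroup.zpowers_le.2 hbH)
      by_cases hc1 : c = 1
      · exact hc1 ▸ one_mem _
      by_cases h1 : b * c = 1
      · exact (inv_eq_of_mul_eq_one_right h1) ▸ inv_mem (Subgroup.mem_zpowers b)
      by_cases h1' : b⁻¹ * c = 1
      · exact (inv_mul_eq_one.1 h1') ▸ Subgroup.mem_zpowers b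
      exfalso
      obtain ⟨B, rfl⟩ := proj_surjective b
      obtain ⟨C, rfl⟩ := proj_surjective c
      have tB := tr_eq_one_of_cube h2 (key _ hbH hb1).2 hb1
      have tC := tr_eq_one_of_cube h2 (key _ hc hc1).2 hc1
      rw [← map_mul] at h1
      rw [← map_inv, ← map_mul] at h1'
      have t1 := tr_eq_one_of_cube h2 (key _ (by rw [map_mul]; exact mul_mem hbH hc) h1).2 h1
      have t2 := tr_eq_one_of_cube h2 (key _ (by rw [map_mul, map_inv]; exact mul_mem (inv_mem hbH) hc) h1').2 h1'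
      have := tr_mul_add B C
      rw [tB, tC, t1, t2] at this
      exact one_ne_zero (α := F) (by linear_combination this)
    rw [heq, Nat.card_zpowers]
    have : Fact (Nat.Prime 3) := ⟨Nat.prime_three⟩
    exact orderOf_eq_prime (key b hbH hb1).2 hb1
  obtain ⟨g₀, hg₀⟩ := hex
  have : Fintype PSL₂F := Fintype.ofFinite _
  obtain ⟨x, hxS, hxmin⟩ := Finset.exists_min_image
    (Finset.univ.filter fun g : PSL₂F => InC H g ∧ S g) (fun g => Nat.card (core H g))
    ⟨g₀, Finset.mem_filter.2 ⟨Finset.mem_univ _, hg₀⟩⟩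
  simp only [Finset.mem_filter, Finset.mem_univ, true_and] at hxS hxmin
  obtain ⟨X₀, rfl⟩ := proj_surjective x
  have move : ∀ X : SL₂F, IsConj (proj X₀) (proj X) → InC H (proj X) ∧ S (proj X) ∧
      ∀ g, InC H g → S g → Nat.card (core H (proj X)) ≤ Nat.card (core H g) := by
    intro X hconj
    obtain ⟨c, hc⟩ := isConj_iff.1 hconj
    refine ⟨hc ▸ hxS.1.conj c, ⟨?_, fun he h3 => hxS.2.2 he ?_⟩, fun g hg hS => ?_⟩
    · rw [← hc]; intro e; exact hxS.2.1 (by simpa using e)
    · rw [← hc, conj_pow] at h3; simpa using h3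
    · rw [card_core_of_conjPM (Or.inl hconj : ConjPM (proj X₀) (proj X))]
      exact hxmin g ⟨hg, hS⟩
  by_cases ht4 : tr X₀ ^ 2 = 4
  · -- a translation
    left
    obtain ⟨u, ε, a, hε, hu⟩ := trichotomy ht4
    obtain ⟨hI, ⟨h1, -⟩, hmin⟩ := move (upS a) (isConj_iff.2 ⟨proj u, by
      rw [← map_inv, ← map_mul, ← map_mul, hu, map_mul, (proj_eq_one_iff ε).2 hε, one_mul]⟩)
    have ha : a ≠ 0 := fun e => h1 (by rw [e, upS_zero, map_one])
    set A := core H (proj (upS a)) with hA
    have hN : ∀ b, proj (upS b) ∈ Subgroup.normalizer (A : Set PSL₂F) :=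
      fun b => mem_normalizer_core_of_comm (upS_mul_comm b a)
    have hborel : ∀ g : SL₂F, proj g ∈ A → (g : M₂) 1 0 = 0 := fun g hg => by
      by_contra hc
      exact normalizer_core_ne_top h4 htop hI h1 (eq_top_of_upS hN (Subgroup.le_normalizer hg) hc)
    have hU : ∀ b, proj (upS b) ∈ A := by
      intro b
      rcases eq_or_ne b 0 with rfl | hb0
      · rw [upS_zero, map_one]; exact one_mem A
      rcases eq_or_ne b a with rfl | hba
      · exact self_mem_core _
      refine triangle_core hb (Or.inl (isConj_upS h2 ha hb0)) ?_ fun g hgx _ hg => hmin g (hI.of_mem_core hgx)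
        ⟨hg, fun hexc => ?_⟩
      · rw [← map_inv, ← map_mul, upS_neg_inv, ← upS_add]
        exact Or.inl (isConj_upS h2 ha fun e => hba (by linear_combination -e))
      · obtain ⟨G, rfl⟩ := proj_surjective g
        exact not_cube_of_borel h2 hexc (hborel G hgx) hg
    obtain ⟨k, hk⟩ := hI
    have hUH : ∀ b, k⁻¹ * proj (upS b) * k ∈ H := fun b => hU b k hk
    -- the conjugate is inside the Borel subgroup
    have hHB : ∀ g : SL₂F, k⁻¹ * proj g * k ∈ H → (g : M₂) 1 0 = 0 := by
      intro g hg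
      by_contra hc
      have hK : H.map (MulAut.conj k).toMonoidHom = ⊤ := eq_top_of_upS
        (fun b => by rw [Subgroup.mem_map_equiv, MulAut.conj_symm_apply]; exact hUH b)
        (by rw [Subgroup.mem_map_equiv, MulAut.conj_symm_apply]; exact hg) hc
      refine htop (eq_top_iff.2 fun y _ => ?_)
      have : k * y * k⁻¹ ∈ H.map (MulAut.conj k).toMonoidHom := hK ▸ Subgroup.mem_top _
      rw [Subgroup.mem_map_equiv, MulAut.conj_symm_apply] at this
      rwa [show k⁻¹ * (k * y * k⁻¹) * k = y by group] at this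
    refine ⟨k, fun y => ⟨fun hy => ?_, fun ⟨b, hb'⟩ => ?_⟩⟩
    swap
    · have := hUH b
      rwa [← hb', show k⁻¹ * (k * y * k⁻¹) * k = y by group] at this
    obtain ⟨G, hG⟩ := proj_surjective (k * y * k⁻¹)
    have hGH : k⁻¹ * proj G * k ∈ H := by rwa [hG, show k⁻¹ * (k * y * k⁻¹) * k = y by group]
    obtain ⟨s, b, hsb, -⟩ := borel_exists (mem_borel.2 (hHB G hGH))
    by_cases hs : s = 1
    · exact ⟨b, by rw [← hG, hsb, hs, diag_one, one_mul]⟩
    exfalso
    set d := diag s with hd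
    have hdH : k⁻¹ * proj d * k ∈ H := by
      have := mul_mem hGH (inv_mem (hUH b))
      rwa [hsb, map_mul, show k⁻¹ * (proj d * proj (upS b)) * k * (k⁻¹ * proj (upS b) * k)⁻¹ =
        k⁻¹ * proj d * k by group] at this
    have hd1 : proj d ≠ 1 := fun e => hs (diag_injective
      (by rw [diag_one]; exact center_eq_one h2 ((proj_eq_one_iff d).1 e)))
    have hdS : S (proj d) := ⟨hd1, fun hexc => not_cube_of_borel h2 hexc (mem_borel.1 (diag_mem_borel s)) hd1⟩
    have hle := hmin (proj d) ⟨k, hdH⟩ hdS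
    -- compare the two cores
    obtain ⟨w, hw⟩ : ∃ w : SL₂F, (w : M₂) = !![0, -1; 1, 0] :=
      ⟨⟨_, by rw [Matrix.det_fin_two_of]; ring⟩, rfl⟩
    have hwd : w⁻¹ * d * w = d⁻¹ := by
      rw [mul_assoc, inv_mul_eq_iff_eq_mul]
      apply Subtype.ext
      simp only [hd, Matrix.SpecialLinearGroup.coe_mul, Matrix.SpecialLinearGroup.coe_inv, hw, diag_coe,
        Matrix.adjugate_fin_two]
      ext i j; fin_cases i <;> fin_cases j <;> simp [Matrix.mul_apply, Fin.sum_univ_two]
    have hdiag : ∀ g : SL₂F, proj g ∈ core H (proj d) → (g : M₂) 1 0 = 0 ∧ (g : M₂) 0 1 = 0 := by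
      intro g hg
      refine ⟨hHB g (hg k hdH), ?_⟩
      have hk' : (proj w * k)⁻¹ * proj d * (proj w * k) ∈ H := by
        rw [show (proj w * k)⁻¹ * proj d * (proj w * k) = k⁻¹ * ((proj w)⁻¹ * proj d * proj w) * k by group,
          ← map_inv, ← map_mul, ← map_mul, hwd, map_inv,
          show k⁻¹ * (proj d)⁻¹ * k = (k⁻¹ * proj d * k)⁻¹ by group]
        exact inv_mem hdH
      have h := hg _ hk'
      rw [show (proj w * k)⁻¹ * proj g * (proj w * k) = k⁻¹ * ((proj w)⁻¹ * proj g * proj w) * k by group,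
        ← map_inv, ← map_mul, ← map_mul] at h
      have := hHB _ h
      rw [Matrix.SpecialLinearGroup.coe_mul, Matrix.SpecialLinearGroup.coe_mul,
        Matrix.SpecialLinearGroup.coe_inv, hw, Matrix.eta_fin_two (g : M₂)] at this
      simpa [Matrix.adjugate_fin_two,
        Matrix.mul_apply, Fin.sum_univ_two] using this
    have hsmall : Nat.card (core H (proj d)) ≤ Nat.card Fˣ := by
      choose r hr using fun g : core H (proj d) => proj_surjective (g : PSL₂F)
      have hmem : ∀ g, proj (r g) ∈ core H (proj d) := fun g => (hr g).symm ▸ g.2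
      have hne : ∀ g, ((r g : SL₂F) : M₂) 0 0 ≠ 0 := fun g e => by
        have := det_eq (r g)
        rw [e, (hdiag _ (hmem g)).1] at this
        simp at this
      refine Nat.card_le_card_of_injective (fun g => Units.mk0 _ (hne g)) fun g g' e => ?_
      have e' : ((r g : SL₂F) : M₂) 0 0 = ((r g' : SL₂F) : M₂) 0 0 := congrArg Units.val e
      obtain ⟨a1, a2⟩ := hdiag _ (hmem g)
      obtain ⟨b1, b2⟩ := hdiag _ (hmem g')
      have d1 := det_eq (r g)
      have d2 := det_eq (r g')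
      rw [a1, a2, mul_zero, sub_zero] at d1
      rw [b1, b2, mul_zero, sub_zero] at d2
      refine Subtype.ext ?_
      rw [← hr g, ← hr g']
      congr 1
      apply Subtype.ext
      ext i j; fin_cases i <;> fin_cases j
      · exact e'
      · exact a2.trans b2.symm
      · exact a1.trans b1.symm
      · exact mul_left_cancel₀ (hne g) (d1.trans (e'.symm ▸ d2).symm)
    have hbig : Nat.card F ≤ Nat.card A := Nat.card_le_card_of_injective (fun b => (⟨_, hU b⟩ : A)) fun b b' e =>
      CfsgLib.ClassicalLinear.upS_injective (proj_injective_two h2 (congrArg Subtype.val e))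
    have : Fintype F := Fintype.ofFinite F
    rw [Nat.card_units] at hsmall
    omega
  · have htc : tr (companion (tr X₀)) ^ 2 ≠ 4 := by rwa [tr_companion]
    obtain ⟨hI, hS, hmin⟩ := move _ ((proj (F := F)).map_isConj (isConj_companion ht4)).symm
    have ht0 : tr X₀ ≠ 0 := fun e => ht4 (by rw [e, four_eq_zero h2, zero_pow two_ne_zero])
    by_cases ht1 : tr X₀ = 1
    · -- split elements of order three
      exfalso
      obtain ⟨l, hl⟩ : ∃ l : F, l ^ 2 + l + 1 = 0 := by
        by_contra hno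
        push Not at hno
        exact hS.2 hno (cube_of_tr_eq_one h2 (by rw [tr_companion, ht1]))
      have hl0 : l ≠ 0 := by rintro rfl; simp at hl
      have hl3 : l ^ 3 = 1 := by linear_combination (l - 1) * hl
      have hlt : l + l⁻¹ = 1 := by
        field_simp
        linear_combination hl - l * h2
      set X := diag (Units.mk0 l hl0) with hX
      have htX : tr X = 1 := by simp [tr, hX, diag_coe, hlt]
      obtain ⟨hI', hS', hmin'⟩ := move X ((proj (F := F)).map_isConj
        (isConj_of_tr_eq ht4 (htX.trans ht1.symm)))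
      have htX4 : tr X ^ 2 ≠ 4 := by rw [htX, four_eq_zero h2]; norm_num
      have key : ∀ Y : SL₂F, tr Y = 1 → tr (X⁻¹ * Y) = 1 → proj Y ∈ core H (proj X) := fun Y h1 h3 =>
        triangle_core hb (conjPM_of_tr htX4 (Or.inl (h1.trans htX.symm)))
          (conjPM_triangle htX4 (Or.inl (h3.trans htX.symm))) fun g hgx _ hg =>
            hmin' g (hI'.of_mem_core hgx) ⟨hg, fun hexc => absurd hl (hexc l)⟩
      have hXm : (X : M₂) = !![l, 0; 0, l ^ 2] := by
        rw [hX, diag_coe]
        have : l⁻¹ = l ^ 2 := inv_eq_of_mul_eq_one_right (by linear_combination hl3)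
        simp [this]
      have hgen : ∀ b c : F, b * c = 0 → ∀ T : SL₂F, (T : M₂) = !![1, b; c, 1] → proj T ∈ core H (proj X) := by
        intro b c hbc T hT
        have hYt : tr (X⁻¹ * T) = 1 := by
          rw [tr, Matrix.SpecialLinearGroup.coe_mul, Matrix.SpecialLinearGroup.coe_inv, hXm, hT,
            Matrix.adjugate_fin_two]
          simp [Matrix.mul_apply, Fin.sum_univ_two]
          linear_combination hl - (1 : F) * h2
        have h3 := key (X⁻¹ * T) hYt (by
          rw [tr, Matrix.SpecialLinearGroup.coe_mul, Matrix.SpecialLinearGroup.coe_mul,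
            Matrix.SpecialLinearGroup.coe_inv, hXm, hT, Matrix.adjugate_fin_two]
          simp [Matrix.mul_apply, Fin.sum_univ_two]
          linear_combination hl + l * hl3 - (1 : F) * h2)
        have := mul_mem (self_mem_core (H := H) (proj X)) h3
        rwa [← map_mul, mul_inv_cancel_left] at this
      exact core_ne_top htop hI' (eq_top_of_upper_lower (fun b => hgen b 0 (mul_zero b) _ (upS_coe b))
        (fun c => hgen 0 c (zero_mul c) _ (lowS_coe c)))
    · exfalso
      set X := companion (tr X₀) with hXdef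
      have htX : tr X = tr X₀ := tr_companion _
      obtain ⟨Y, hY1, hY2⟩ := exists_triangle (X := X) htc (tr X₀) (tr X₀)
      have hirr : tr (X * Y * X⁻¹ * Y⁻¹) ≠ 2 := by
        intro h
        have := tr_commutator_triangle (hY1.trans htX.symm) hY2
        rw [h, htX] at this
        have hf : tr X₀ ^ 2 * (tr X₀ + 1) = 0 := by
          linear_combination this + (2 * tr X₀ ^ 2 - 2) * h2
        rcases mul_eq_zero.1 hf with e | e
        · exact ht0 ((pow_eq_zero_iff two_ne_zero).1 e)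
        · exact ht1 (by linear_combination e - h2)
      -- an exceptional element of a core commutes
      have hcomm : ∀ W : SL₂F, tr W = tr X₀ → ∀ G : SL₂F, proj G ∈ core H (proj W) →
          (∀ l : F, l ^ 2 + l + 1 ≠ 0) → tr G = 1 → G * W = W * G := by
        intro W hW G hG hexc hG1
        have hW4 : tr W ^ 2 ≠ 4 := by rwa [hW]
        by_contra hne
        have hi : tr (W * G * W⁻¹ * G⁻¹) ≠ 2 := by
          intro h
          refine hne (comm_of_tr_commutator (by rw [hG1]; exact (no_root_iff h2).1 hexc) ?_)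
          rw [show G * W * G⁻¹ * W⁻¹ = (W * G * W⁻¹ * G⁻¹)⁻¹ by group, tr_inv, h]
        have hIW : InC H (proj W) := hI.of_conjPM (conjPM_of_tr htc (Or.inl (hW.trans htX.symm)))
        have hW1 : proj W ≠ 1 := fun e => notMem_center_of_tr hW4 ((proj_eq_one_iff W).1 e)
        exact normalizer_core_ne_top h4 htop hIW hW1 (eq_top_ss_even h4 h5 h2 (hW ▸ ht0) (hW ▸ ht1)
          (hG1 ▸ one_ne_zero) (fun g hg => mem_normalizer_core_of_comm hg) (Subgroup.le_normalizer hG) hi)
      have hyA : proj Y ∈ core H (proj X) := by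
        refine triangle_core hb (conjPM_of_tr htc (Or.inl (hY1.trans htX.symm)))
          (conjPM_triangle htc (Or.inl (hY2.trans htX.symm))) fun g hgx hgy hg => hmin g (hI.of_mem_core hgx)
            ⟨hg, fun hexc h3 => ?_⟩
        obtain ⟨G, rfl⟩ := proj_surjective g
        have hG1 := tr_eq_one_of_cube h2 h3 hg
        have hGc : G ∉ Subgroup.center SL₂F := fun h => hg ((proj_eq_one_iff G).2 h)
        exact hirr (tr_commutator_eq_two_of_comm (centralizer_mulComm hGc
          (Subgroup.mem_centralizer_singleton_iff.2 (hcomm X htX G hgx hexc hG1).symm)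
          (Subgroup.mem_centralizer_singleton_iff.2 (hcomm Y hY1 G hgy hexc hG1).symm)))
      exact normalizer_core_ne_top h4 htop hI hS.1 (eq_top_ss_even h4 h5 h2 (htX ▸ ht0) (htX ▸ ht1)
        (hY1 ▸ ht0) (fun g hg => mem_normalizer_core_of_comm hg) (Subgroup.le_normalizer hyA) hirr)

omit [Finite F] in
lemma mem_translations_iff (h2 : (2 : F) = 0) {a : F} (ha : a ≠ 0) (g : PSL₂F) :
    (∃ b, g = proj (upS b)) ↔ g * proj (upS a) = proj (upS a) * g := by
  constructor
  · rintro ⟨b, rfl⟩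
    rw [← map_mul, ← map_mul, upS_mul_comm]
  · intro h
    obtain ⟨G, rfl⟩ := proj_surjective g
    rw [← map_mul, ← map_mul] at h
    have hG := proj_injective_two h2 h
    have hmem : G ∈ Subgroup.centralizer ({(1 : SL₂F) * upS a} : Set SL₂F) :=
      Subgroup.mem_centralizer_singleton_iff.2 (by rw [one_mul]; exact hG)
    obtain ⟨ε, hε, b, hGb⟩ := (mem_centralizer_upS (one_mem _) ha _).1 hmem
    exact ⟨b, by rw [hGb, center_eq_one h2 hε, one_mul]⟩

omit [Finite F] in
/-- The cosets of a Sylow `2`-subgroup give a binary action. -/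
theorem binRep_translations (h2 : (2 : F) = 0) (hU : ∀ g, g ∈ H ↔ ∃ b, g = proj (upS b)) : BinRep H := by
  have hU1 : ∀ {v : PSL₂F}, v ∈ H → v ≠ 1 → ∀ {g : PSL₂F}, g ∈ H ↔ g * v = v * g := by
    intro v hv hv1 g
    obtain ⟨a, rfl⟩ := (hU v).1 hv
    rw [hU g, mem_translations_iff h2 (a := a) (fun e => hv1 (by rw [e, upS_zero, map_one]))]
  have hconjmem : ∀ {v : PSL₂F} {k : PSL₂F}, k⁻¹ * v * k ∈ H → v ≠ 1 →
      ∀ {w : PSL₂F}, k⁻¹ * w * k ∈ H ↔ w * v = v * w := by
    intro v k hv hv1 w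
    rw [hU1 hv (fun e => hv1 (CfsgLib.Suzuki.conj'_eq_one (k := k) (by simpa using e)))]
    rw [show k⁻¹ * w * k * (k⁻¹ * v * k) = k⁻¹ * (w * v) * k by group,
      show k⁻¹ * v * k * (k⁻¹ * w * k) = k⁻¹ * (v * w) * k by group, mul_left_inj, mul_right_inj]
  refine binRep_of_ti (fun v k k' hv hk hk' w hw => (hconjmem hk' hv).2 ((hconjmem hk hv).1 hw))
    fun v₁ v₂ v₃ k₁ k₂ k₃ h1 h2' h3 he n1 n2 n3 => (hconjmem h1 n1).2 ?_
  have hsq : ∀ {v k : PSL₂F}, k⁻¹ * v * k ∈ H → v * v = 1 := by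
    intro v k hv
    obtain ⟨a, ha⟩ := (hU _).1 hv
    have : (k⁻¹ * v * k) * (k⁻¹ * v * k) = 1 := by
      rw [ha, ← map_mul, ← upS_add, show a + a = 0 by linear_combination a * h2, upS_zero, map_one]
    rw [show v * v = k * ((k⁻¹ * v * k) * (k⁻¹ * v * k)) * k⁻¹ by group, this]; group
  have i1 := hsq h1
  have i2 := hsq h2'
  have i3 := hsq h3
  have hc : v₃ * v₂ = v₂ * v₃ := by
    have := inv_eq_of_mul_eq_one_right i1
    rw [he, _root_.mul_inv_rev, inv_eq_of_mul_eq_one_right i2, inv_eq_of_mul_eq_one_right i3] at this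
    exact this
  rw [he, mul_assoc v₂ v₃ v₂, hc]

/-- The cosets of a subgroup of order three give a binary action when no element of order three splits. -/
theorem binRep_three (h2 : (2 : F) = 0) (hexc : ∀ l : F, l ^ 2 + l + 1 ≠ 0) (hcard : Nat.card H = 3) :
    BinRep H := by
  have : Fact (Nat.Prime 3) := ⟨Nat.prime_three⟩
  have hz : ∀ {v k : PSL₂F}, k⁻¹ * v * k ∈ H → v ≠ 1 → ∀ w, k⁻¹ * w * k ∈ H → w ∈ Subgroup.zpowers v := by
    intro v k hv hv1 w hw
    have : Fintype H := Fintype.ofFinite _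
    obtain ⟨n, hn⟩ := mem_zpowers_of_prime_card (G := H) hcard (g := ⟨_, hv⟩) (g' := ⟨_, hw⟩)
      (fun e => hv1 (CfsgLib.Suzuki.conj'_eq_one (k := k) (by simpa using congrArg Subtype.val e)))
    refine ⟨n, ?_⟩
    have h' : (k⁻¹ * v * k) ^ n = k⁻¹ * w * k := by simpa using congrArg Subtype.val hn
    have hc : (k⁻¹ * v * k⁻¹⁻¹) ^ n = k⁻¹ * v ^ n * k⁻¹⁻¹ := conj_zpow ..
    rw [inv_inv] at hc
    rw [hc] at h'
    exact mul_left_cancel (mul_right_cancel h')
  have hz' : ∀ {v k : PSL₂F}, k⁻¹ * v * k ∈ H → v ≠ 1 → ∀ w, w ∈ Subgroup.zpowers v → k⁻¹ * w * k ∈ H := by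
    rintro v k hv - w ⟨n, rfl⟩
    have := zpow_mem hv n
    have hc : (k⁻¹ * v * k⁻¹⁻¹) ^ n = k⁻¹ * v ^ n * k⁻¹⁻¹ := conj_zpow ..
    rw [inv_inv] at hc
    rwa [hc] at this
  have hcube : ∀ {v k : PSL₂F}, k⁻¹ * v * k ∈ H → v ^ 3 = 1 := by
    intro v k hv
    have h := congrArg Subtype.val (pow_card_eq_one' (x := (⟨_, hv⟩ : H)))
    rw [hcard] at h
    simp only [Subgroup.coe_pow, Subgroup.coe_one] at h
    have hc : (k⁻¹ * v * k⁻¹⁻¹) ^ 3 = k⁻¹ * v ^ 3 * k⁻¹⁻¹ := conj_pow ..
    rw [inv_inv] at hc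
    rw [hc] at h
    exact CfsgLib.Suzuki.conj'_eq_one (k := k) (by simpa using h)
  refine binRep_of_ti (fun v k k' hv hk hk' w hw => hz' hk' hv w (hz hk hv w hw))
    fun v₁ v₂ v₃ k₁ k₂ k₃ h1 h2' h3 he n1 n2 n3 => hz' h1 n1 _ ?_
  obtain ⟨V₂, rfl⟩ := proj_surjective v₂
  obtain ⟨V₃, rfl⟩ := proj_surjective v₃
  rw [← map_mul] at he
  subst he
  have t1 := tr_eq_one_of_cube h2 (hcube h1) n1
  have t2 := tr_eq_one_of_cube h2 (hcube h2') n2
  have t3 := tr_eq_one_of_cube h2 (hcube h3) n3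
  have hc : V₂ * V₃ = V₃ * V₂ := comm_of_tr_commutator (by rw [t2]; exact (no_root_iff h2).1 hexc) (by
    rw [tr_commutator, t1, t2, t3]; linear_combination -(1 : F) * h2)
  set V₁ := V₂ * V₃ with hV₁
  have hV1c : V₁ ∉ Subgroup.center SL₂F := fun h => n1 ((proj_eq_one_iff _).2 h)
  obtain ⟨p, r, hpr⟩ := (mem_centralizer_singleton_iff' hV1c V₂).1
    (Subgroup.mem_centralizer_singleton_iff.2 (by
      rw [hV₁, mul_assoc]; exact congrArg (V₂ * ·) (hV₁.symm.trans hc)))
  have htr : r = 1 := by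
    have e00 : (V₂ : M₂) 0 0 = p + r * (V₁ : M₂) 0 0 := by rw [hpr]; simp
    have e11 : (V₂ : M₂) 1 1 = p + r * (V₁ : M₂) 1 1 := by rw [hpr]; simp
    simp only [tr] at t1 t2
    linear_combination t2 - e00 - e11 - r * t1 - p * h2
  have hdet : p ^ 2 + tr V₁ * p * r + r ^ 2 = 1 := by
    rw [← det_lin, ← hpr]; exact V₂.2
  rw [t1, htr] at hdet
  have hp : p * (p + 1) = 0 := by linear_combination hdet
  rcases mul_eq_zero.1 hp with e | e
  · have : V₂ = V₁ := Subtype.ext (by rw [hpr, e, htr, zero_smul, zero_add, one_smul])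
    exact this ▸ Subgroup.mem_zpowers _
  · have : V₂ = V₁⁻¹ := by
      apply Subtype.ext
      rw [hpr, htr, coe_inv_eq, t1, eq_neg_of_add_eq_zero_left e]
      have hn : ∀ x : F, -x = x := fun x => by linear_combination -x * h2
      ext i j
      simp [hn]
      linear_combination ((V₁ : M₂) i j) * h2
    rw [this, map_inv]
    exact inv_mem (Subgroup.mem_zpowers _)

end CfsgLib.SL2.Binary
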