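import Cfsg.Agent.Lib.SL2.FpfThreeTrace
import Cfsg.Agent.Lib.TwoGroupTricks.SL2Natural

/-!
Modules for `SL₂(F)`, `F` of characteristic two with at least four elements, in which every element
`y` of trace one satisfies `y² + y + 1 = 0`: they have exponent two and are sums of natural modules.
-/

set_option autoImplicit false
set_option linter.unusedSectionVars false
set_option linter.style.haveILetI false

open Matrix
open scoped MatrixGroups
open CfsgLib.TwoGroupTricks.SL2Natural (xM yM nM dM xM_add xM_zero yM_mul_nM nM_nM xM_dM dM_one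
  induction_xy)

namespace CfsgLib.SL2.FpfThree

variable {F : Type*} [Field F] [Fintype F]

local notation "M₂" => Matrix (Fin 2) (Fin 2) F

theorem card_ne_five (h2 : (2 : F) = 0) : Fintype.card F ≠ 5 := by
  intro h
  have h5 : ((5 : ℕ) : F) = 0 := by rw [← h]; exact Nat.cast_card_eq_zero F
  push_cast at h5
  exact one_ne_zero (α := F) (by linear_combination h5 - 2 * h2)

/-- The hypotheses on a representation. -/
structure Rep {R : Type*} [Ring R] (ρ : SL(2, F) →* R) : Prop where
  two : (2 : F) = 0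
  two' : (2 : R) = 0
  four_le : 4 ≤ Fintype.card F
  rel : ∀ y : SL(2, F), tr y = 1 → ρ y * ρ y + ρ y + 1 = 0

section Trace

variable {R : Type*} [Ring R] {ρ : SL(2, F) →* R}

/-- The candidate trace. -/
def T (ρ : SL(2, F) →* R) (g : SL(2, F)) : R := ρ g + ρ g⁻¹

variable (H : Rep ρ)

include H

theorem Rep.add_self (r : R) : r + r = 0 := by rw [← two_mul, H.two', zero_mul]

theorem Rep.eq_of_add_eq_zero {r s : R} (h : r + s = 0) : r = s := by
  calc r = r + (s + s) := by rw [H.add_self, add_zero]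
    _ = (r + s) + s := by rw [add_assoc]
    _ = s := by rw [h, zero_add]

theorem Rep.T_zero {g : SL(2, F)} (h : tr g = 0) : T ρ g = 0 := by
  have e : g⁻¹ = g := inv_eq_of_mul_eq_one_right (mul_self_of_tr_zero H.two h)
  rw [T, e, H.add_self]

theorem Rep.T_one {g : SL(2, F)} (h : tr g = 1) : T ρ g = 1 := by
  have e : g⁻¹ = g * g := inv_eq_of_mul_eq_one_right (by rw [← mul_assoc]; exact cube_of_tr_one H.two h)
  rw [T, e, map_mul, add_comm]
  exact H.eq_of_add_eq_zero (H.rel g h)

omit H in
theorem T_conj (c g : SL(2, F)) : ρ c * T ρ g = T ρ (c * g * c⁻¹) * ρ c := by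
  simp only [T, mul_add, add_mul, ← map_mul]
  congr 1 <;> · congr 1; group

theorem Rep.step {g g' : SL(2, F)} (h : g' ∈ nb g) : T ρ g' = T ρ g := by
  obtain ⟨htr, h1⟩ := mem_nb.1 h
  set y := g⁻¹ * g' with hy
  have hg' : g' = g * y := by rw [hy, mul_inv_cancel_left]
  have e : T ρ (g * y) + T ρ (g * y⁻¹) = T ρ g := by
    have hy1 := H.T_one h1
    rw [T] at hy1
    simp only [T, map_mul, _root_.mul_inv_rev, inv_inv]
    calc ρ g * ρ y + ρ y⁻¹ * ρ g⁻¹ + (ρ g * ρ y⁻¹ + ρ y * ρ g⁻¹)
        = ρ g * (ρ y + ρ y⁻¹) + (ρ y + ρ y⁻¹) * ρ g⁻¹ := by noncomm_ring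
      _ = _ := by rw [hy1, mul_one, one_mul]
  have h0 : tr (g * y⁻¹) = 0 := by
    have := tr_mul_add H.two g y
    rw [← hg', htr, h1, mul_one] at this
    exact add_eq_left.1 this
  rw [H.T_zero h0, add_zero, ← hg'] at e
  exact e

theorem Rep.central_companion {t : F} (ht : t ≠ 0) (ht1 : t ≠ 1) (c : SL(2, F)) :
    ρ c * T ρ (companion t) = T ρ (companion t) * ρ c := by
  classical
  set h := companion t with hh
  let K : Subgroup (SL(2, F)) :=
    { carrier := {c | ρ c * T ρ h = T ρ h * ρ c}
      one_mem' := by simp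
      mul_mem' := fun {a b} ha hb => by
        simp only [Set.mem_ofPred_eq] at ha hb ⊢
        rw [map_mul, mul_assoc, hb, ← mul_assoc, ha, mul_assoc]
      inv_mem' := fun {a} ha => by
        simp only [Set.mem_ofPred_eq] at ha ⊢
        calc ρ a⁻¹ * T ρ h = ρ a⁻¹ * (T ρ h * ρ a) * ρ a⁻¹ := by
              rw [mul_assoc, mul_assoc, ← map_mul, mul_inv_cancel, map_one, mul_one]
          _ = ρ a⁻¹ * (ρ a * T ρ h) * ρ a⁻¹ := by rw [ha]
          _ = _ := by rw [← mul_assoc, ← map_mul, inv_mul_cancel, map_one, one_mul] }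
  let C : Finset (SL(2, F)) := Finset.univ.filter fun g => tr g = t
  let P := (nb h).sigma fun g' => (nb g').erase h
  let S2 : Finset (SL(2, F)) := P.image (fun x => x.2)
  let M : Finset (SL(2, F)) := insert h S2
  have htrh : tr h = t := tr_companion t
  have hmemM : ∀ m ∈ M, tr m = t ∧ T ρ m = T ρ h := by
    intro m hm
    rcases Finset.mem_insert.1 hm with rfl | hm
    · exact ⟨htrh, rfl⟩
    · obtain ⟨⟨g', g2⟩, hP, rfl⟩ := Finset.mem_image.1 hm
      obtain ⟨h1, h2⟩ := Finset.mem_sigma.1 hP
      have h3 := (Finset.mem_erase.1 h2).2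
      exact ⟨((mem_nb.1 h3).1.trans (mem_nb.1 h1).1).trans htrh, (H.step h3).trans (H.step h1)⟩
  have hidx := index_mul_card_le K h M C
    (fun m hm => by
      obtain ⟨c', hc'⟩ := isConj_iff.1 (isConj_tr H.two (g := h) (g' := m) (by rw [htrh]; exact ht)
        (by rw [htrh]; exact (hmemM m hm).1))
      exact ⟨c', hc'⟩)
    (fun c' hc' => by
      show ρ c' * T ρ h = T ρ h * ρ c'
      rw [T_conj, (hmemM _ hc').2])
    (fun c' => Finset.mem_filter.2 ⟨Finset.mem_univ _, by rw [tr_conj, htrh]⟩)
  have hC := card_class_le H.two t C (fun g hg => (Finset.mem_filter.1 hg).2)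
  have hM : M.card = S2.card + 1 := by
    refine Finset.card_insert_of_notMem fun hm => ?_
    obtain ⟨⟨g', g2⟩, hP, e⟩ := Finset.mem_image.1 hm
    exact (Finset.mem_erase.1 (Finset.mem_sigma.1 hP).2).1 e
  set d := (nb h).card with hd
  have hdeg : ∀ g' ∈ nb h, d ≤ ((nb g').erase h).card + 1 := by
    intro g' hg'
    obtain ⟨c', hc'⟩ := isConj_iff.1 (isConj_tr H.two (g := h) (g' := g') (by rw [htrh]; exact ht)
      (mem_nb.1 hg').1)
    rw [Finset.card_erase_of_mem (nb_symm hg'), ← hc', card_nb_conj]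
    omega
  have hP : d * (d - 1) ≤ P.card := by
    rw [Finset.card_sigma]
    calc d * (d - 1) = ∑ _g' ∈ nb h, (d - 1) := by rw [Finset.sum_const, smul_eq_mul, hd]
      _ ≤ _ := Finset.sum_le_sum fun g' hg' => by have := hdeg g' hg'; omega
  have hfib : P.card ≤ 2 * S2.card := by
    refine Finset.card_le_mul_card_image P 2 fun g2 hg2 => ?_
    by_contra hlt
    obtain ⟨a, ha, b, hb, c', hc', hab, hac, hbc⟩ := Finset.two_lt_card.1 (by omega :
      2 < (P.filter fun x => x.2 = g2).card)
    obtain ⟨a1, a2⟩ := a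
    obtain ⟨b1, b2⟩ := b
    obtain ⟨c1, c2⟩ := c'
    obtain ⟨haP, e⟩ := Finset.mem_filter.1 ha
    obtain ⟨hbP, e'⟩ := Finset.mem_filter.1 hb
    obtain ⟨hcP, e''⟩ := Finset.mem_filter.1 hc'
    dsimp only at e e' e''
    subst a2 b2 c2
    rw [Finset.mem_sigma, Finset.mem_erase] at haP hbP hcP
    have hg2t : tr g2 = t := ((mem_nb.1 haP.2.2).1.trans (mem_nb.1 haP.1).1).trans htrh
    have := card_common_le H.two ht ht1 hg2t haP.2.1 (u := a1) (v := b1) (w := c1)
      ⟨haP.1, haP.2.2⟩ ⟨hbP.1, hbP.2.2⟩ ⟨hcP.1, hcP.2.2⟩ (fun e => hab (by rw [e]))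
      (fun e => hac (by rw [e]))
    exact hbc (by rw [this])
  obtain ⟨hd1, hd4⟩ := card_nb_ge H.two ht ht1
  have hK3 : K.index ≤ 3 := by
    have h5 := card_ne_five (F := F) H.two
    have hq := H.four_le
    rw [hM] at hidx
    rw [← hd] at hd1 hd4
    set q := Fintype.card F with hqdef
    obtain ⟨d', hd'⟩ : ∃ d', d = d' + 1 := ⟨d - 1, by omega⟩
    rw [hd', Nat.add_sub_cancel] at hP
    by_contra hgt
    have h4 : 4 * (S2.card + 1) ≤ q ^ 2 + q :=
      le_trans (Nat.mul_le_mul_right _ (by omega)) (hidx.trans hC)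
    rcases eq_or_ne q 4 with e4 | e4
    · have := hd4 e4
      rw [e4] at h4
      nlinarith
    · have h6 : 6 ≤ q := by omega
      nlinarith
  have htop := eq_top_of_index_le_three
    (CfsgLib.OutAut.SLEven.simple_perfect H.two (by rw [Nat.card_eq_fintype_card]; exact H.four_le)).2 hK3
  exact (htop ▸ Subgroup.mem_top c : c ∈ K)

/-- The elements `T g` are central and depend only on the trace. -/
theorem Rep.T_eq (g : SL(2, F)) : T ρ g = T ρ (companion (tr g)) := by
  by_cases ht : tr g = 0
  · rw [H.T_zero ht, H.T_zero (by rw [tr_companion, ht])]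
  by_cases ht1 : tr g = 1
  · rw [H.T_one ht1, H.T_one (by rw [tr_companion, ht1])]
  obtain ⟨c, hc⟩ := isConj_iff.1 (isConj_tr H.two (g := companion (tr g)) (g' := g)
    (by rw [tr_companion]; exact ht) (by rw [tr_companion]))
  have e := T_conj (ρ := ρ) c (companion (tr g))
  rw [H.central_companion ht ht1, hc] at e
  have := congrArg (fun r => r * ρ c⁻¹) e
  simp only [mul_assoc, ← map_mul, mul_inv_cancel, map_one, mul_one] at this
  exact this.symm

theorem Rep.T_central (g c : SL(2, F)) : ρ c * T ρ g = T ρ g * ρ c := by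
  rw [T_conj, H.T_eq (c * g * c⁻¹), tr_conj, ← H.T_eq g]

theorem Rep.T_mul (g h : SL(2, F)) :
    T ρ g * T ρ h = T ρ (g * h) + T ρ (g⁻¹ * h) := by
  have hc : T ρ g * ρ h⁻¹ = ρ h⁻¹ * T ρ g := (H.T_central g h⁻¹).symm
  calc T ρ g * T ρ h = T ρ g * ρ h + T ρ g * ρ h⁻¹ := by rw [T, T, mul_add]
    _ = T ρ g * ρ h + ρ h⁻¹ * T ρ g := by rw [hc]
    _ = _ := by simp only [T, mul_add, add_mul, map_mul, _root_.mul_inv_rev, inv_inv]; abel

/-- The field acts through the traces. -/
noncomputable def Rep.phi : F →+* R where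
  toFun t := T ρ (companion t)
  map_one' := H.T_one (tr_companion 1)
  map_zero' := H.T_zero (tr_companion 0)
  map_mul' s t := by
    let g : SL(2, F) := ⟨!![s, 1; 1, 0], by simp [det_fin_two_of]; linear_combination -H.two⟩
    have hg : tr g = s := by simp [tr, g]
    have h0 : tr (g * companion t) = 0 := by
      rw [tr, Matrix.SpecialLinearGroup.coe_mul]; simp [g, companion, Matrix.mul_apply, Fin.sum_univ_two]
    have h1 : tr (g⁻¹ * companion t) = s * t := by
      rw [tr_inv_mul H.two]; simp [g, companion]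
    have := H.T_mul g (companion t)
    rw [H.T_eq g, hg, H.T_zero h0, zero_add, H.T_eq (g⁻¹ * companion t), h1] at this
    exact this.symm
  map_add' x y := by
    obtain ⟨q, hq⟩ := exists_sqrt H.two (x * (x + (x + y)) + 1)
    let g : SL(2, F) := ⟨!![1, 1; 1, 0], by simp [det_fin_two_of]; linear_combination -H.two⟩
    let h : SL(2, F) := ⟨!![x, q; q, x + (x + y)], by
      simp [det_fin_two_of]; linear_combination -hq - H.two⟩
    have hg : tr g = 1 := by simp [tr, g]
    have hh : tr h = x + y := by simp [tr, h]; linear_combination x * H.two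
    have h0 : tr (g * h) = x := by
      rw [tr, Matrix.SpecialLinearGroup.coe_mul]; simp [g, h, Matrix.mul_apply, Fin.sum_univ_two]; linear_combination q * H.two
    have h1 : tr (g⁻¹ * h) = y := by
      rw [tr_inv_mul H.two]; simp [g, h]; linear_combination (q + x) * H.two
    have := H.T_mul g h
    rw [H.T_one hg, one_mul, H.T_eq h, hh, H.T_eq (g * h), h0, H.T_eq (g⁻¹ * h), h1] at this
    exact this

theorem Rep.phi_tr (g : SL(2, F)) : H.phi (tr g) = T ρ g := (H.T_eq g).symm

theorem Rep.phi_central (t : F) (g : SL(2, F)) : ρ g * H.phi t = H.phi t * ρ g :=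
  H.T_central _ g

theorem Rep.n_sq : ρ (nM : SL(2, F)) * ρ nM = 1 := by
  rw [← map_mul, nM_nM]
  have : (-1 : Fˣ) = 1 := Units.ext (by push_cast; linear_combination -H.two)
  rw [this, dM_one, map_one]

/-- Unipotent elements act quadratically. -/
theorem Rep.xM_eq (b : F) : ρ (xM b) + 1 = H.phi b * (ρ (xM 1) + 1) ∧
    (ρ (xM 1) + 1) * ρ nM + ρ nM * (ρ (xM 1) + 1) = 1 := by
  set X : F → R := fun a => ρ (xM a) + 1 with hX
  set n := ρ (nM : SL(2, F)) with hn
  set A := X 1 with hA
  have hxx : ∀ a c : F, ρ (xM a) * ρ (xM c) = ρ (xM c) * ρ (xM a) := fun a c => by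
    rw [← map_mul, ← map_mul, ← xM_add, ← xM_add, add_comm]
  have hsq : ∀ a : F, ρ (xM a) * ρ (xM a) = 1 := fun a => by
    rw [← map_mul, ← xM_add, FpfThree.add_self H.two, xM_zero, map_one]
  have hXn : ∀ a, X a * n + n * X a = H.phi a := by
    intro a
    have htr : tr (xM a * nM : SL(2, F)) = a := by
      rw [tr, Matrix.SpecialLinearGroup.coe_mul]; simp [xM, nM, Matrix.mul_apply, Fin.sum_univ_two]
    have hinv : (xM a * nM : SL(2, F))⁻¹ = nM * xM a := by
      refine inv_eq_of_mul_eq_one_right ?_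
      have hnn : (nM : SL(2, F)) * nM = 1 := by
        rw [nM_nM, show (-1 : Fˣ) = 1 from Units.ext (by push_cast; linear_combination -H.two), dM_one]
      calc xM a * nM * (nM * xM a) = xM a * (nM * nM) * xM a := by simp [mul_assoc]
        _ = 1 := by rw [hnn, mul_one, ← xM_add, FpfThree.add_self H.two, xM_zero]
    have h := H.phi_tr (xM a * nM)
    rw [htr, T, hinv, map_mul, map_mul] at h
    rw [h, hX]
    calc (ρ (xM a) + 1) * n + n * (ρ (xM a) + 1) = ρ (xM a) * n + n * ρ (xM a) + (n + n) := by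
          noncomm_ring
      _ = _ := by rw [H.add_self, add_zero]
  have hAn : A * n + n * A = 1 := by rw [hA, hXn, map_one]
  refine ⟨?_, hAn⟩
  clear_value A
  have hXcomm : ∀ a c, X a * X c = X c * X a := fun a c => by
    simp only [hX, add_mul, mul_add, one_mul, mul_one]
    rw [hxx a c]; abel
  have hXsq : ∀ a, X a * X a = 0 := fun a => by
    simp only [hX, add_mul, mul_add, one_mul, mul_one]
    rw [hsq a]
    calc (1 : R) + ρ (xM a) + (ρ (xM a) + 1) = (1 + 1) + (ρ (xM a) + ρ (xM a)) := by abel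
      _ = 0 := by rw [H.add_self, H.add_self, add_zero]
  have hXadd : ∀ a c, X a * X c = X (a + c) + X a + X c := fun a c => by
    simp only [hX]
    rw [xM_add, map_mul]
    calc (ρ (xM a) + 1) * (ρ (xM c) + 1) = ρ (xM a) * ρ (xM c) + ρ (xM a) + ρ (xM c) + 1 := by
          noncomm_ring
      _ = ρ (xM a) * ρ (xM c) + ρ (xM a) + ρ (xM c) + 1 + (1 + 1) := by rw [H.add_self, add_zero]
      _ = _ := by abel
  have hc : ∀ a g, ρ g * H.phi a = H.phi a * ρ g := H.phi_central
  have hcX : ∀ a c, X c * H.phi a = H.phi a * X c := fun a c => by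
    simp only [hX, add_mul, mul_add, one_mul, mul_one, hc]
  set Y : F → R := fun a => X a + H.phi a * A with hY
  clear_value Y
  have hYu : ∀ a c, ρ (xM c) * Y a = Y a * ρ (xM c) := fun a c => by
    simp only [hY, hA, hX, mul_add, add_mul, mul_one, one_mul, ← mul_assoc, hc]
    rw [hxx c a, mul_assoc (H.phi a) (ρ (xM c)), hxx c 1, ← mul_assoc]
  have hYn : ∀ a, n * Y a = Y a * n := fun a => by
    refine H.eq_of_add_eq_zero ?_
    calc n * Y a + Y a * n = (X a * n + n * X a) + H.phi a * (A * n + n * A) := by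
          simp only [hY, mul_add, add_mul, ← mul_assoc, hn, hc]; abel
      _ = 0 := by rw [hXn, hAn, mul_one, H.add_self]
  have hYall : ∀ a g, ρ g * Y a = Y a * ρ g := by
    intro a g
    refine induction_xy (P := fun g => ρ g * Y a = Y a * ρ g) (hYu a) (fun u => ?_)
      (fun g k hg hk => by rw [map_mul, mul_assoc, hk, ← mul_assoc, hg, mul_assoc]) g
    have hnn : (nM : SL(2, F)) * nM = 1 := by
      rw [nM_nM, show (-1 : Fˣ) = 1 from Units.ext (by push_cast; linear_combination -H.two), dM_one]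
    have e : yM u = nM * xM (-u) * nM := by
      rw [← yM_mul_nM, mul_assoc, hnn, mul_one]
    rw [e, map_mul, map_mul, mul_assoc, hYn, ← mul_assoc, mul_assoc n, hYu, ← mul_assoc, hYn,
      mul_assoc (Y a), mul_assoc (Y a)]
  -- conjugation by the torus
  have hmul : ∀ a c : F, c ≠ 0 → X (a * c) = H.phi a * X c + Y a := by
    intro a c hc0
    obtain ⟨r, hr⟩ := exists_sqrt H.two c
    have hr0 : r ≠ 0 := by rintro rfl; apply hc0; rw [← hr]; ring
    have hd : ∀ u : F, ρ (xM (u * c)) * ρ (dM (Units.mk0 r hr0)) =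
        ρ (dM (Units.mk0 r hr0)) * ρ (xM u) := by
      intro u
      rw [← map_mul, ← map_mul, xM_dM]
      congr 2
      rw [← hr]
      simp
      field_simp
    set D := ρ (dM (Units.mk0 r hr0)) with hD
    have hX' : ∀ u : F, X (u * c) * D = D * X u := fun u => by
      simp only [hX, add_mul, mul_add, one_mul, mul_one, hd]
    have e : X (a * c) * D = (H.phi a * X c + Y a) * D := by
      have e1 := hX' 1
      rw [one_mul, ← hA] at e1
      have e2 : X a = H.phi a * A + Y a := by
        simp only [hY]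
        rw [add_comm (X a), ← add_assoc, H.add_self, zero_add]
      rw [hX' a, add_mul, mul_assoc, e1, e2, mul_add, hD, hYall, ← mul_assoc, hc, mul_assoc, ← hD]
    have hDi : D * ρ (dM (Units.mk0 r hr0))⁻¹ = 1 := by rw [hD, ← map_mul, mul_inv_cancel, map_one]
    calc X (a * c) = X (a * c) * D * ρ (dM (Units.mk0 r hr0))⁻¹ := by rw [mul_assoc, hDi, mul_one]
      _ = _ := by rw [e, mul_assoc, hDi, mul_one]
  classical
  obtain ⟨w, hw⟩ : ∃ w : F, w ∉ ({0, 1} : Finset F) := by
    refine Finset.exists_mem_notMem_of_card_lt_card (t := Finset.univ) ?_ |>.imp fun w hw => hw.2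
    rw [Finset.card_univ]
    exact lt_of_le_of_lt Finset.card_le_two (by have := H.four_le; omega)
  simp only [Finset.mem_insert, Finset.mem_singleton, not_or] at hw
  have hw1 : w + 1 ≠ 0 := fun e => hw.2 (by linear_combination e - H.two)
  set Z := H.phi (w + 1)⁻¹ * Y w with hZ
  have hYZ : ∀ a : F, a ≠ 0 → Y a = (H.phi a + 1) * Z := by
    intro a ha
    have e1 := hmul a w hw.1
    have e2 := hmul w a ha
    rw [mul_comm w a] at e2
    have hXa : ∀ c : F, X c = H.phi c * A + Y c := fun c => by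
      simp only [hY]; rw [add_comm (X c), ← add_assoc, H.add_self, zero_add]
    rw [e1, hXa w, hXa a, mul_add, mul_add, ← mul_assoc, ← mul_assoc, ← map_mul, ← map_mul,
      mul_comm w a, add_assoc, add_assoc] at e2
    have e3 := add_left_cancel e2
    -- `(φ w + 1) Y a = (φ a + 1) Y w`
    have e4 : H.phi (w + 1) * Y a = H.phi (a + 1) * Y w := by
      rw [map_add, map_add, map_one, add_mul, add_mul, one_mul, one_mul]
      refine H.eq_of_add_eq_zero ?_
      calc H.phi w * Y a + Y a + (H.phi a * Y w + Y w)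
          = (H.phi a * Y w + Y a) + (H.phi w * Y a + Y w) := by abel
        _ = 0 := by rw [e3, H.add_self]
    rw [hZ, ← mul_assoc, ← map_one H.phi, ← map_add, ← map_mul, mul_comm (a + 1), map_mul, mul_assoc,
      ← e4, ← mul_assoc, ← map_mul, inv_mul_cancel₀ hw1, map_one, one_mul]
  have hXf : ∀ a : F, a ≠ 0 → X a = H.phi a * A + (H.phi a + 1) * Z := fun a ha => by
    rw [← hYZ a ha]; simp only [hY]; rw [add_comm (X a), ← add_assoc, H.add_self, zero_add]
  have hAX : ∀ a, A * X a = X a * A := fun a => by rw [hA]; exact hXcomm 1 a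
  have hAphi : ∀ a, A * H.phi a = H.phi a * A := fun a => by rw [hA]; exact hcX a 1
  have hAY : ∀ a, A * Y a = Y a * A := fun a => by
    simp only [hY, mul_add, add_mul, hAX, ← mul_assoc, hAphi]
  have hAZ : A * Z = Z * A := by rw [hZ, ← mul_assoc, hAphi, mul_assoc, hAY, mul_assoc]
  have hZphi : ∀ a, Z * H.phi a = H.phi a * Z := fun a => by
    have hYphi : Y w * H.phi a = H.phi a * Y w := by
      simp only [hY, mul_add, add_mul, hcX, mul_assoc, hAphi]
      rw [← mul_assoc (H.phi w), ← mul_assoc (H.phi a), ← map_mul, ← map_mul, mul_comm w a]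
    rw [hZ, mul_assoc, hYphi, ← mul_assoc, ← mul_assoc, ← map_mul, ← map_mul,
      mul_comm (w + 1)⁻¹ a]
  have hZsq : Z * Z = 0 := by
    have hY2 : Y w * Y w = 0 := by
      have ew : X w * (H.phi w * A) = H.phi w * A * X w := by
        rw [← mul_assoc, hcX, mul_assoc, ← hAX, mul_assoc]
      calc Y w * Y w = X w * X w + H.phi w * A * (H.phi w * A) +
            (X w * (H.phi w * A) + H.phi w * A * X w) := by simp only [hY]; noncomm_ring
        _ = H.phi w * (H.phi w * (A * A)) := by
            rw [hXsq, zero_add, ew, H.add_self, add_zero, mul_assoc, ← mul_assoc A, hAphi, mul_assoc]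
        _ = 0 := by rw [hA, hXsq, mul_zero, mul_zero]
    have hYphi : Y w * H.phi (w + 1)⁻¹ = H.phi (w + 1)⁻¹ * Y w := by
      simp only [hY, mul_add, add_mul, hcX, mul_assoc, hAphi]
      rw [← mul_assoc (H.phi w), ← mul_assoc (H.phi (w + 1)⁻¹) (H.phi w), ← map_mul, ← map_mul,
        mul_comm w]
    rw [hZ, mul_assoc, ← mul_assoc (Y w), hYphi, mul_assoc, hY2, mul_zero, mul_zero]
  have hkey : ∀ a c : F, a ≠ 0 → c ≠ 0 → a + c ≠ 0 → H.phi (a + c) * (A * Z) = Z := by
    intro a c ha hc0 hac
    have e := hXadd a c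
    rw [hXf a ha, hXf c hc0, hXf (a + c) hac] at e
    have hA2 : A * A = 0 := by rw [hA]; exact hXsq 1
    have eL : (H.phi a * A + (H.phi a + 1) * Z) * (H.phi c * A + (H.phi c + 1) * Z) =
        H.phi (a + c) * (A * Z) := by
      have z1 : A * (H.phi c * A) = 0 := by rw [← mul_assoc, hAphi, mul_assoc, hA2, mul_zero]
      have z2 : A * ((H.phi c + 1) * Z) = (H.phi c + 1) * (A * Z) := by
        rw [← mul_assoc, mul_add, hAphi, mul_one, add_mul, add_mul, one_mul, mul_assoc]
      have z3 : Z * (H.phi c * A) = H.phi c * (A * Z) := by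
        rw [← mul_assoc, hZphi, mul_assoc, hAZ]
      have z4 : Z * ((H.phi c + 1) * Z) = 0 := by
        rw [← mul_assoc, mul_add, hZphi, mul_one, add_mul, mul_assoc, hZsq, mul_zero, add_zero]
      rw [add_mul, mul_assoc (H.phi a), mul_add A, z1, z2, zero_add, mul_assoc (H.phi a + 1),
        mul_add Z, z3, z4, add_zero, ← map_one H.phi, ← map_add, ← map_add]
      simp only [← mul_assoc, ← map_mul]
      rw [← add_mul, ← add_mul, ← map_add]
      congr 3
      linear_combination (a * c) * H.two
    rw [eL, map_add] at e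
    rw [map_add]
    refine e.trans ?_
    calc (H.phi a + H.phi c) * A + (H.phi a + H.phi c + 1) * Z + (H.phi a * A + (H.phi a + 1) * Z) +
          (H.phi c * A + (H.phi c + 1) * Z)
        = (H.phi a * A + H.phi a * A) + (H.phi c * A + H.phi c * A) +
          (H.phi a * Z + H.phi a * Z) + (H.phi c * Z + H.phi c * Z) + (Z + Z) + Z := by noncomm_ring
      _ = Z := by simp only [H.add_self, zero_add]
  have hAZ0 : A * Z = 0 := by
    have e1 := hkey 1 w one_ne_zero hw.1 (by rw [add_comm]; exact hw1)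
    have e2 := hkey 1 (w + 1) one_ne_zero hw1 (fun e => hw.1 (by linear_combination e - H.two))
    have e3 : H.phi (1 + w) * (A * Z) + H.phi (1 + (w + 1)) * (A * Z) = 0 := by
      rw [e1, e2, H.add_self]
    rw [← add_mul, ← map_add, show (1 : F) + w + (1 + (w + 1)) = 1 by
      linear_combination (1 + w) * H.two, map_one, one_mul] at e3
    exact e3
  have hZ0 : Z = 0 := by
    have e1 := hkey 1 w one_ne_zero hw.1 (by rw [add_comm]; exact hw1)
    rw [hAZ0, mul_zero] at e1
    exact e1.symm
  show X b = H.phi b * X 1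
  rw [← hA]
  by_cases hb : b = 0
  · rw [hb, map_zero, zero_mul]
    simp only [hX, xM_zero, map_one, H.add_self]
  · rw [hXf b hb, hZ0, mul_zero, add_zero]

end Trace

section Module

variable {V : Type*} [AddCommGroup V] [Finite V] {ρ : SL(2, F) →* AddMonoid.End V}

/-- Such a module of exponent two is a direct sum of natural modules. -/
theorem Rep.exists_coords (H : Rep ρ) :
    ∃ (k : ℕ) (E : (Fin k → Fin 2 → F) →+ V), Function.Bijective E ∧
      ∀ (g : SL(2, F)) x, ρ g (E x) = E fun i => (g : M₂).mulVec (x i) := by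
  classical
  letI : Module F V := Module.compHom V H.phi
  have smul_def : ∀ (c : F) (v : V), c • v = H.phi c v := fun _ _ => rfl
  have hlin : ∀ (g : SL(2, F)) (c : F) (v : V), ρ g (c • v) = c • ρ g v := fun g c v => by
    rw [smul_def, smul_def]
    exact congrArg (fun f : AddMonoid.End V => f v) (H.phi_central c g)
  set A : AddMonoid.End V := ρ (xM 1) + 1 with hA
  have Aval : ∀ v, A v = ρ (xM 1) v + v := fun v => rfl
  set n : AddMonoid.End V := ρ (nM : SL(2, F)) with hn
  have hAn : ∀ v, A (n v) + n (A v) = v := fun v =>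
    congrArg (fun f : AddMonoid.End V => f v) (H.xM_eq 1).2
  have hnn : ∀ v, n (n v) = v := fun v => congrArg (fun f : AddMonoid.End V => f v) H.n_sq
  have hv2 : ∀ v : V, v + v = 0 := fun v =>
    congrArg (fun f : AddMonoid.End V => f v) (H.add_self (1 : AddMonoid.End V))
  have hAA : ∀ v, A (A v) = 0 := fun v => by
    rw [Aval, Aval, map_add]
    have e : ρ (xM 1) (ρ (xM 1) v) = v := by
      show (ρ (xM 1) * ρ (xM 1)) v = v
      rw [← map_mul, ← xM_add, FpfThree.add_self H.two, xM_zero, map_one]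
      rfl
    rw [e, add_comm v, add_add_add_comm, hv2, hv2, add_zero]
  let W : Submodule F V :=
    { carrier := {v | A v = 0}
      zero_mem' := map_zero A
      add_mem' := fun {a b} ha hb => by
        simp only [Set.mem_ofPred_eq] at ha hb ⊢
        rw [map_add, ha, hb, add_zero]
      smul_mem' := fun c v hv => by
        simp only [Set.mem_ofPred_eq] at hv ⊢
        rw [Aval, hlin, ← smul_add, ← Aval, hv, smul_zero] }
  let b := Module.finBasis F W
  let k := Module.finrank F W
  let coord : (Fin k → Fin 2 → F) → Fin 2 → W := fun x j => b.equivFun.symm fun i => x i j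
  let E : (Fin k → Fin 2 → F) →+ V :=
    { toFun := fun x => (coord x 0 : V) + n (coord x 1 : V)
      map_zero' := by
        have : ∀ j, coord 0 j = 0 := fun j => map_zero b.equivFun.symm
        simp [this]
      map_add' := fun x y => by
        have : ∀ j, coord (x + y) j = coord x j + coord y j := fun j =>
          map_add b.equivFun.symm (fun i => x i j) (fun i => y i j)
        simp only [this, Submodule.coe_add, map_add]
        abel }
  have hEdef : ∀ x, E x = (coord x 0 : V) + n (coord x 1 : V) := fun x => rfl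
  refine ⟨k, E, ⟨?_, ?_⟩, ?_⟩
  · refine (injective_iff_map_eq_zero E).2 fun x hx => ?_
    rw [hEdef] at hx
    have h0 : A (coord x 0 : V) = 0 := (coord x 0).2
    have h1 : A (coord x 1 : V) = 0 := (coord x 1).2
    have e := congrArg A hx
    rw [map_add, h0, zero_add, map_zero] at e
    have e1 : (coord x 1 : V) = 0 := by
      have := hAn (coord x 1 : V)
      rw [e, h1, map_zero, add_zero] at this
      exact this.symm
    rw [e1, map_zero, add_zero] at hx
    have c0 : (fun i => x i 0) = 0 := by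
      refine b.equivFun.symm.injective ?_
      rw [map_zero]; exact Subtype.ext hx
    have c1 : (fun i => x i 1) = 0 := by
      refine b.equivFun.symm.injective ?_
      rw [map_zero]; exact Subtype.ext e1
    funext i j
    fin_cases j
    · exact congrFun c0 i
    · exact congrFun c1 i
  · intro v
    let w0 : W := ⟨A (n v), hAA _⟩
    let w1 : W := ⟨A v, hAA _⟩
    refine ⟨fun i => ![b.equivFun w0 i, b.equivFun w1 i], ?_⟩
    rw [hEdef]
    have h0 : coord (fun i => ![b.equivFun w0 i, b.equivFun w1 i]) 0 = w0 := b.equivFun.symm_apply_apply w0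
    have h1 : coord (fun i => ![b.equivFun w0 i, b.equivFun w1 i]) 1 = w1 := b.equivFun.symm_apply_apply w1
    rw [h0, h1]
    exact hAn v
  · have hcoord : ∀ (c : F) (f : Fin k → F), b.equivFun.symm (fun i => c * f i) = c • b.equivFun.symm f :=
      fun c f => map_smul b.equivFun.symm c f
    have hxu : ∀ (u : F) x, ρ (xM u) (E x) = E fun i => ((xM u : SL(2, F)) : M₂).mulVec (x i) := by
      intro u x
      have hX : ∀ v, ρ (xM u) v = v + u • A v := fun v => by
        have e := congrArg (fun f : AddMonoid.End V => f v) (H.xM_eq u).1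
        rw [smul_def]
        calc ρ (xM u) v = ρ (xM u) v + (v + v) := by rw [hv2, add_zero]
          _ = (ρ (xM u) v + v) + v := by rw [add_assoc]
          _ = _ := by rw [add_comm]; exact congrArg (v + ·) e
      rw [hX, hEdef, hEdef, map_add, (coord x 0).2, zero_add]
      have e1 : A (n (coord x 1 : V)) = coord x 1 := by
        have := hAn (coord x 1 : V)
        rwa [(coord x 1).2, map_zero, add_zero] at this
      rw [e1]
      have c0 : coord (fun i => ((xM u : SL(2, F)) : M₂).mulVec (x i)) 0 = coord x 0 + u • coord x 1 := by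
        show b.equivFun.symm _ = _
        rw [← hcoord, ← map_add]
        congr 1
        funext i
        simp [xM, Matrix.mulVec, dotProduct, Fin.sum_univ_two]
      have c1 : coord (fun i => ((xM u : SL(2, F)) : M₂).mulVec (x i)) 1 = coord x 1 := by
        show b.equivFun.symm _ = _
        congr 1
        funext i
        simp [xM, Matrix.mulVec, dotProduct, Fin.sum_univ_two]
      rw [c0, c1, Submodule.coe_add, Submodule.coe_smul]
      abel
    have hn' : ∀ x, n (E x) = E fun i => ((nM : SL(2, F)) : M₂).mulVec (x i) := by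
      intro x
      rw [hEdef, hEdef, map_add, hnn]
      have hm : (-1 : F) = 1 := by linear_combination -H.two
      have c0 : coord (fun i => ((nM : SL(2, F)) : M₂).mulVec (x i)) 0 = coord x 1 := by
        show b.equivFun.symm _ = _
        congr 1
        funext i
        simp [nM, Matrix.mulVec, dotProduct, Fin.sum_univ_two, hm]
      have c1 : coord (fun i => ((nM : SL(2, F)) : M₂).mulVec (x i)) 1 = coord x 0 := by
        show b.equivFun.symm _ = _
        congr 1
        funext i
        simp [nM, Matrix.mulVec, dotProduct, Fin.sum_univ_two]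
      rw [c0, c1, add_comm]
    intro g
    refine induction_xy (P := fun g => ∀ x, ρ g (E x) = E fun i => (g : M₂).mulVec (x i)) hxu
      (fun u x => ?_) (fun g h hg hh x => ?_) g
    · have hnn' : (nM : SL(2, F)) * nM = 1 := by
        rw [nM_nM, show (-1 : Fˣ) = 1 from Units.ext (by push_cast; linear_combination -H.two), dM_one]
      have e : yM u = nM * xM (-u) * nM := by rw [← yM_mul_nM, mul_assoc, hnn', mul_one]
      rw [e, map_mul, map_mul]
      show n (ρ (xM (-u)) (n (E x))) = _
      rw [hn', hxu, hn']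
      congr 1
      funext i
      rw [Matrix.mulVec_mulVec, Matrix.mulVec_mulVec, ← Matrix.SpecialLinearGroup.coe_mul,
        ← Matrix.SpecialLinearGroup.coe_mul]
    · rw [map_mul]
      show ρ g (ρ h (E x)) = _
      rw [hh, hg]
      congr 1
      funext i
      rw [Matrix.mulVec_mulVec, Matrix.SpecialLinearGroup.coe_mul]

/-- A 2-primary module in which every element of trace one satisfies `y² + y + 1 = 0` has exponent
two. -/
theorem exponent_two (h2 : (2 : F) = 0) (h4 : 4 ≤ Fintype.card F) (ρ : SL(2, F) →* AddMonoid.End V)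
    (hrel : ∀ y : SL(2, F), tr y = 1 → ρ y * ρ y + ρ y + 1 = 0)
    (hprim : ∀ v : V, ∃ k : ℕ, 2 ^ k • v = 0) (v : V) : v + v = 0 := by
  classical
  let Ω : AddSubgroup V := (AddMonoidHom.id V + AddMonoidHom.id V).ker
  have memΩ : ∀ e : V, e ∈ Ω ↔ e + e = 0 := fun e => Iff.rfl
  have hinv : ∀ (g : SL(2, F)) (e : V), e + e = 0 → ρ g e + ρ g e = 0 := fun g e he => by
    rw [← map_add, he, map_zero]
  let ρ' : SL(2, F) →* AddMonoid.End Ω :=
    { toFun := fun g =>
        { toFun := fun e => ⟨ρ g e, hinv g e e.2⟩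
          map_zero' := Subtype.ext (map_zero (ρ g))
          map_add' := fun a b => Subtype.ext (map_add (ρ g) (a : V) b) }
      map_one' := by
        ext e
        show ρ 1 (e : V) = e
        rw [map_one]; rfl
      map_mul' := fun g h => by
        ext e
        show ρ (g * h) (e : V) = ρ g (ρ h e)
        rw [map_mul]; rfl }
  have H : Rep ρ' :=
    { two := h2
      two' := by
        rw [← one_add_one_eq_two]
        refine AddMonoidHom.ext fun e => Subtype.ext ?_
        exact e.2
      four_le := h4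
      rel := fun y hy => AddMonoidHom.ext fun e => Subtype.ext
        (congrArg (fun f : AddMonoid.End V => f (e : V)) (hrel y hy)) }
  obtain ⟨b, hb⟩ : ∃ b : F, b ∉ ({0, 1} : Finset F) := by
    refine Finset.exists_mem_notMem_of_card_lt_card (t := Finset.univ) ?_ |>.imp fun b hb => hb.2
    rw [Finset.card_univ]
    exact lt_of_le_of_lt Finset.card_le_two (by omega)
  simp only [Finset.mem_insert, Finset.mem_singleton, not_or] at hb
  set u := ρ (xM 1) with hu
  set w := ρ (xM b) with hw
  set n := ρ (nM : SL(2, F)) with hn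
  let Φ : V → V := fun x => ρ (companion b) x + ρ (companion b)⁻¹ x
  have Φadd : ∀ x y, Φ (x + y) = Φ x + Φ y := fun x y => by
    simp only [Φ, map_add]; abel
  have hE1 : ∀ e : V, e + e = 0 → w e + e = Φ (u e + e) := fun e he =>
    congrArg (fun f : AddMonoid.End Ω => ((f ⟨e, he⟩ : Ω) : V)) (H.xM_eq b).1
  have hE2 : ∀ e : V, e + e = 0 → u (n e) + n e + n (u e + e) = e := fun e he =>
    congrArg (fun f : AddMonoid.End Ω => ((f ⟨e, he⟩ : Ω) : V)) (H.xM_eq b).2
  have huu : ∀ x, u (u x) = x := fun x => by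
    show (ρ (xM 1) * ρ (xM 1)) x = x
    rw [← map_mul, ← xM_add, FpfThree.add_self h2, xM_zero, map_one]; rfl
  have hww : ∀ x, w (w x) = x := fun x => by
    show (ρ (xM b) * ρ (xM b)) x = x
    rw [← map_mul, ← xM_add, FpfThree.add_self h2, xM_zero, map_one]; rfl
  have huw : ∀ x, u (w x) = w (u x) := fun x => by
    show (ρ (xM 1) * ρ (xM b)) x = (ρ (xM b) * ρ (xM 1)) x
    rw [← map_mul, ← map_mul, ← xM_add, ← xM_add, add_comm]
  -- doubles of elements of order dividing four
  let D : V → Prop := fun c => ∃ g : V, g + g = c ∧ c + c = 0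
  have Dρ : ∀ g c, D c → D (ρ g c) := fun g c ⟨x, hx, hc⟩ =>
    ⟨ρ g x, by rw [← map_add, hx], hinv g c hc⟩
  have Dadd : ∀ c c', D c → D c' → D (c + c') := fun c c' ⟨x, hx, hc⟩ ⟨y, hy, hc'⟩ =>
    ⟨x + y, by rw [add_add_add_comm, hx, hy], by rw [add_add_add_comm, hc, hc', add_zero]⟩
  have DΦ : ∀ c, D c → D (Φ c) := fun c hc => Dadd _ _ (Dρ _ c hc) (Dρ _ c hc)
  have hfix : ∀ c, D c → u c = c → ∃ g f, g + g = n c ∧ f = g + u g ∧ u f = f ∧ f + f = c := by
    intro c hc huc
    obtain ⟨g, hg, hnc⟩ := Dρ nM c hc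
    refine ⟨g, g + u g, hg, rfl, by rw [map_add, huu, add_comm], ?_⟩
    rw [add_add_add_comm, ← map_add, hg]
    have e := hE2 c hc.choose_spec.2
    rw [huc, hc.choose_spec.2, map_zero, add_zero] at e
    rw [add_comm]; exact e
  -- the derivation
  let RC : V → V → Prop := fun c r => ∃ f, u f = f ∧ f + f = c ∧ r = w f - f
  have hΩfix : ∀ e : V, e + e = 0 → u e = e → w e = e := fun e he hue => by
    have h := hE1 e he
    rw [hue, he, show Φ 0 = 0 by simp [Φ]] at h
    exact (eq_neg_of_add_eq_zero_left h).trans (neg_eq_of_add_eq_zero_left he)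
  have hRC : ∀ c r r', RC c r → RC c r' → r = r' := by
    rintro c r r' ⟨f, hf1, hf2, rfl⟩ ⟨f', hf1', hf2', rfl⟩
    have he : (f - f') + (f - f') = 0 := by rw [sub_add_sub_comm, hf2, hf2', sub_self]
    have := hΩfix _ he (by rw [map_sub, hf1, hf1'])
    rw [map_sub, sub_eq_sub_iff_sub_eq_sub] at this
    exact this
  have hRΩ : ∀ c r, c + c = 0 → u c = c → RC c r → r + r = 0 := by
    rintro c r hc huc ⟨f, hf1, hf2, rfl⟩
    rw [sub_add_sub_comm, ← map_add, hf2, hΩfix c hc huc, sub_self]
  have hstep : ∀ c r, D c → u c = c → RC c r → u (Φ c) = Φ c ∧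
      RC (Φ c) (Φ r + Φ (Φ c) + Φ c) := by
    intro c r hc huc hr
    obtain ⟨g, f, hg, hf, hf1, hf2⟩ := hfix c hc huc
    have hc2 := hc.choose_spec.2
    have hΦfix : u (Φ c) = Φ c := by
      have h := congrArg (fun q : AddMonoid.End Ω => ((q ⟨c, hc2⟩ : Ω) : V))
        (H.phi_central b (xM 1))
      have h' : u (Φ c) = Φ (u c) := h
      rwa [huc] at h'
    refine ⟨hΦfix, ?_⟩
    obtain ⟨g', f', hg', hf', hf1', hf2'⟩ := hfix (Φ c) (DΦ c hc) hΦfix
    have hr2 := hRΩ c r hc2 huc hr
    obtain rfl : r = w f - f := hRC c r _ hr ⟨f, hf1, hf2, rfl⟩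
    set r' := w f' - f' with hr'
    refine ⟨f', hf1', hf2', ?_⟩
    have hncΩ : n c + n c = 0 := hinv _ c hc2
    set h := w g - g with hh
    have hwh : w h = -h := by rw [hh, map_sub, hww, neg_sub]
    have huh : u h + h = w f - f := by
      rw [hh, hf, map_sub, map_add, huw]; abel
    have hh2 : h + h = Φ c := by
      rw [hh, sub_add_sub_comm, ← map_add, hg, sub_eq_add_neg, neg_eq_of_add_eq_zero_left hncΩ,
        hE1 _ hncΩ]
      have e := hE2 c hc2
      rw [huc, hc2, map_zero, add_zero] at e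
      rw [e]
    set e := h - f' with he
    have heΩ : e + e = 0 := by rw [he, sub_add_sub_comm, hh2, hf2', sub_self]
    have hΦc2 : Φ c + Φ c = 0 := by rw [← Φadd, hc2]; simp [Φ]
    have hue : u e + e = (w f - f) + Φ c := by
      rw [he, map_sub, hf1', show u h - f' + (h - f') = (u h + h) - (f' + f') by abel, huh, hf2',
        sub_eq_add_neg, neg_eq_of_add_eq_zero_left hΦc2]
    have hr'2 := hRΩ (Φ c) r' hΦc2 hΦfix ⟨f', hf1', hf2', rfl⟩
    have hwe : w e + e = r' + Φ c := by
      rw [he, map_sub, hwh, show -h - w f' + (h - f') = -((w f' - f') + (f' + f')) by abel, hf2', ← hr']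
      exact neg_eq_of_add_eq_zero_left (by rw [add_add_add_comm, hr'2, hΦc2, add_zero])
    have h1 := hE1 e heΩ
    rw [hwe, hue, Φadd] at h1
    calc Φ (w f - f) + Φ (Φ c) + Φ c = r' + Φ c + Φ c := by rw [h1]
      _ = _ := by rw [add_assoc, hΦc2, add_zero]
  -- iterate around the multiplicative order of `b`
  have hzero : ∀ c, D c → u c = c → c = 0 := by
    intro c hc huc
    have hc2 := hc.choose_spec.2
    obtain ⟨g, f, hg, hf, hf1, hf2⟩ := hfix c hc huc
    have hr0 : RC c (w f - f) := ⟨f, hf1, hf2, rfl⟩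
    have hr02 := hRΩ c _ hc2 huc hr0
    let cΩ : Ω := ⟨c, hc2⟩
    let rΩ : Ω := ⟨w f - f, hr02⟩
    set p := H.phi b with hp
    set K := H.phi (b + b ^ 2) with hK
    have Φcoe : ∀ e : Ω, Φ (e : V) = ((p e : Ω) : V) := fun e => rfl
    have key : ∀ m : ℕ, D ((p ^ m) cΩ : Ω) ∧ u ((p ^ m) cΩ : Ω) = (((p ^ m) cΩ : Ω) : V) ∧
        RC ((p ^ m) cΩ : Ω) ((((p ^ m) rΩ + m • (H.phi (b ^ (m - 1)) * K) cΩ : Ω)) : V) := by
      intro m
      induction m with
      | zero =>
        simp only [pow_zero, zero_smul, add_zero]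
        exact ⟨hc, huc, hr0⟩
      | succ m ih =>
        obtain ⟨i1, i2, i3⟩ := ih
        obtain ⟨s1, s2⟩ := hstep _ _ i1 i2 i3
        rw [Φcoe] at s1 s2
        have e : (p ^ (m + 1)) cΩ = p ((p ^ m) cΩ) := by rw [pow_succ']; rfl
        refine ⟨?_, ?_, ?_⟩
        · rw [e, ← Φcoe]; exact DΦ _ i1
        · rw [e]; exact s1
        · rw [e]
          convert s2 using 1
          rw [Φcoe, Φcoe, ← AddSubgroup.coe_add, ← AddSubgroup.coe_add]
          congr 1
          have e1 : p ((p ^ m) rΩ + m • (H.phi (b ^ (m - 1)) * K) cΩ) =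
              (p ^ (m + 1)) rΩ + m • (H.phi (b ^ m) * K) cΩ := by
            rw [map_add, map_nsmul, pow_succ']
            congr 1
            rcases Nat.eq_zero_or_pos m with rfl | hm
            · simp
            · congr 1
              show (p * (H.phi (b ^ (m - 1)) * K)) cΩ = _
              rw [← mul_assoc, hp, ← map_mul, ← pow_succ', Nat.sub_add_cancel hm]
          have e2 : p (p ((p ^ m) cΩ)) + p ((p ^ m) cΩ) = (H.phi (b ^ m) * K) cΩ := by
            show (p * (p * p ^ m) + p * p ^ m) cΩ = _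
            rw [hp, hK, ← map_pow, ← map_mul, ← map_mul, ← map_mul, ← map_add]
            congr 2
            ring
          rw [e1, Nat.add_sub_cancel, add_assoc, e2, add_assoc, ← succ_nsmul]
    set q := Fintype.card F with hq
    have hbq : b ^ (q - 1) = 1 := FiniteField.pow_card_sub_one_eq_one b hb.1
    have hpq : p ^ (q - 1) = 1 := by rw [hp, ← map_pow, hbq, map_one]
    obtain ⟨-, -, k3⟩ := key (q - 1)
    rw [hpq] at k3
    have e := hRC c _ _ k3 hr0
    have e' : (q - 1) • (H.phi (b ^ (q - 1 - 1)) * K) cΩ = 0 := by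
      have : rΩ + (q - 1) • (H.phi (b ^ (q - 1 - 1)) * K) cΩ = rΩ := Subtype.ext e
      exact add_eq_left.1 this
    obtain ⟨j, hj⟩ : ∃ j, q - 1 = 2 * j + 1 := by
      have h0 : ((q : ℕ) : F) = 0 := Nat.cast_card_eq_zero F
      rcases Nat.even_or_odd q with ⟨j, hj⟩ | ⟨j, hj⟩
      · exact ⟨j - 1, by omega⟩
      · exfalso
        rw [hj] at h0; push_cast at h0
        exact one_ne_zero (α := F) (by linear_combination h0 - (j : F) * h2)
    have h2Ω : ∀ e : Ω, (2 * j) • e = 0 := fun e => by
      rw [mul_comm, mul_smul, two_nsmul, show e + e = 0 from Subtype.ext e.2, smul_zero]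
    rw [hj, add_smul, h2Ω, zero_add, one_smul, Nat.add_sub_cancel, hK, ← map_mul] at e'
    have hne : b ^ (2 * j) * (b + b ^ 2) ≠ 0 := by
      refine mul_ne_zero (pow_ne_zero _ hb.1) fun e0 => ?_
      have : b * (1 + b) = 0 := by linear_combination e0
      exact hb.2 (by linear_combination (mul_eq_zero.1 this).resolve_left hb.1 - h2)
    have := congrArg (H.phi (b ^ (2 * j) * (b + b ^ 2))⁻¹) e'
    rw [map_zero] at this
    have h' : (H.phi (b ^ (2 * j) * (b + b ^ 2))⁻¹ * H.phi (b ^ (2 * j) * (b + b ^ 2))) cΩ = 0 := this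
    rw [← map_mul, inv_mul_cancel₀ hne, map_one] at h'
    exact congrArg Subtype.val h'
  have hD : ∀ c, D c → c = 0 := by
    intro c hc
    have h1 : ∀ c, D c → u c + c = 0 := fun c hc =>
      hzero _ (Dadd _ _ (Dρ _ c hc) hc) (by rw [map_add, huu, add_comm])
    have e := hE2 c hc.choose_spec.2
    rw [h1 c hc, h1 _ (Dρ nM c hc), map_zero, add_zero] at e
    exact e.symm
  have key : ∀ k : ℕ, ∀ x : V, 2 ^ k • x = 0 → x + x = 0 := by
    intro k
    induction k with
    | zero => intro x hx; rw [pow_zero, one_smul] at hx; rw [hx, add_zero]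
    | succ k ih =>
      intro x hx
      rw [pow_succ, mul_smul, two_nsmul] at hx
      exact hD _ ⟨x, rfl, ih _ hx⟩
  obtain ⟨k, hk⟩ := hprim v
  exact key k v hk

end Module

end CfsgLib.SL2.FpfThree
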