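import Cfsg.Agent.Lib.SL2.Torus
import Cfsg.Agent.Lib.OutAut.CAInvSL2

/-!
A representation `ρ` of `SL₂(F)`, `F` of characteristic two with at least four elements, in a ring
of characteristic two, in which every element `y` of trace one satisfies `ρ y ^ 2 + ρ y + 1 = 0`:
the elements `ρ g + ρ g⁻¹` are central and give a ring homomorphism of `F`, evaluated at the trace.
-/

set_option autoImplicit false
set_option linter.unusedSectionVars false
set_option linter.style.haveILetI false

open Matrix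
open scoped MatrixGroups

namespace CfsgLib.SL2.FpfThree

variable {F : Type*} [Field F] [Fintype F] (h2 : (2 : F) = 0)

local notation "M₂" => Matrix (Fin 2) (Fin 2) F

include h2

theorem add_self (x : F) : x + x = 0 := by linear_combination x * h2

theorem sq_inj {x y : F} (h : x ^ 2 = y ^ 2) : x = y := by
  have e : (x + y) ^ 2 = 0 := by linear_combination h + (y ^ 2 + x * y) * h2
  have e' := (sq_eq_zero_iff).1 e
  linear_combination e' - y * h2

theorem exists_sqrt (x : F) : ∃ y : F, y ^ 2 = x :=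
  Finite.surjective_of_injective (f := fun y : F => y ^ 2) (fun _ _ h => sq_inj h2 h) x

theorem tr_inv_mul (g h : SL(2, F)) :
    tr (g⁻¹ * h) = (g : M₂) 1 1 * (h : M₂) 0 0 + (g : M₂) 0 1 * (h : M₂) 1 0 +
      (g : M₂) 1 0 * (h : M₂) 0 1 + (g : M₂) 0 0 * (h : M₂) 1 1 := by
  simp [tr, Matrix.SpecialLinearGroup.coe_inv, adjugate_fin_two, Matrix.mul_apply]
  linear_combination (-((g : M₂) 0 1 * (h : M₂) 1 0) - (g : M₂) 1 0 * (h : M₂) 0 1) * h2

theorem tr_mul_add (g y : SL(2, F)) : tr (g * y) + tr (g * y⁻¹) = tr g * tr y := by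
  simp [tr, Matrix.SpecialLinearGroup.coe_inv, adjugate_fin_two, Matrix.mul_apply]
  ring

theorem det_char_two (g : SL(2, F)) :
    (g : M₂) 0 0 * (g : M₂) 1 1 + (g : M₂) 0 1 * (g : M₂) 1 0 = 1 := by
  linear_combination det_eq g + ((g : M₂) 0 1 * (g : M₂) 1 0) * h2

theorem mul_self_of_tr_zero {g : SL(2, F)} (h : tr g = 0) : g * g = 1 := by
  apply Subtype.ext
  rw [Matrix.SpecialLinearGroup.coe_mul, mul_self_eq, h]
  ext i j
  fin_cases i <;> fin_cases j <;> simp
  all_goals linear_combination -h2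

theorem cube_of_tr_one {g : SL(2, F)} (h : tr g = 1) : g * g * g = 1 := by
  apply Subtype.ext
  rw [Matrix.SpecialLinearGroup.coe_mul, Matrix.SpecialLinearGroup.coe_mul, mul_self_eq, h, one_smul,
    sub_mul, one_mul, mul_self_eq, h, one_smul]
  ext i j
  fin_cases i <;> fin_cases j <;> simp
  all_goals linear_combination -h2

theorem isConj_tr {g g' : SL(2, F)} (ht : tr g ≠ 0) (he : tr g' = tr g) : IsConj g g' := by
  refine isConj_of_tr_eq ?_ he
  intro e
  refine ht ((sq_eq_zero_iff).1 ?_)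
  linear_combination e + 2 * h2

omit h2

/-- The neighbours of `g` in its class. -/
noncomputable def nb (g : SL(2, F)) : Finset (SL(2, F)) := by
  classical exact Finset.univ.filter fun g' => tr g' = tr g ∧ tr (g⁻¹ * g') = 1

theorem mem_nb {g g' : SL(2, F)} : g' ∈ nb g ↔ tr g' = tr g ∧ tr (g⁻¹ * g') = 1 := by
  simp [nb]

theorem nb_symm {g g' : SL(2, F)} (h : g' ∈ nb g) : g ∈ nb g' := by
  rw [mem_nb] at h ⊢
  refine ⟨h.1.symm, ?_⟩
  rw [← tr_inv, _root_.mul_inv_rev, inv_inv, h.2]

theorem card_nb_conj (g c : SL(2, F)) : (nb (c * g * c⁻¹)).card = (nb g).card := by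
  refine (Finset.card_bij (fun g' _ => c * g' * c⁻¹) ?_ ?_ ?_).symm
  · intro g' hg'
    rw [mem_nb] at hg' ⊢
    refine ⟨by rw [tr_conj, tr_conj, hg'.1], ?_⟩
    rw [show (c * g * c⁻¹)⁻¹ * (c * g' * c⁻¹) = c * (g⁻¹ * g') * c⁻¹ by group, tr_conj, hg'.2]
  · intro a _ b _ e
    exact mul_left_cancel (mul_right_cancel e)
  · intro g' hg'
    refine ⟨c⁻¹ * g' * c, ?_, by group⟩
    rw [mem_nb] at hg' ⊢
    rw [tr_conj] at hg'
    refine ⟨?_, ?_⟩
    · have := tr_conj g' c⁻¹
      rw [inv_inv] at this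
      rw [this, hg'.1]
    · have := tr_conj ((c * g * c⁻¹)⁻¹ * g') c⁻¹
      rw [inv_inv] at this
      rw [show g⁻¹ * (c⁻¹ * g' * c) = c⁻¹ * ((c * g * c⁻¹)⁻¹ * g') * c by group, this, hg'.2]

include h2

theorem nb_companion_coords {t : F} {g : SL(2, F)} (hg : g ∈ nb (companion t)) :
    (g : M₂) 1 1 = (g : M₂) 0 0 + t ∧ (g : M₂) 1 0 = 1 + (g : M₂) 0 1 + t * (g : M₂) 0 0 := by
  rw [mem_nb, tr_companion, tr_inv_mul h2] at hg
  obtain ⟨h1, h3⟩ := hg
  simp [companion] at h3
  rw [tr] at h1
  exact ⟨by linear_combination h1 - (g : M₂) 0 0 * h2,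
    by linear_combination h3 + ((g : M₂) 1 0 - t * (g : M₂) 0 0 - (g : M₂) 0 1) * h2⟩

/-- The neighbours of the companion matrix lie on an ellipse. -/
theorem nb_companion_conic {t : F} (ht : t ≠ 0) {g : SL(2, F)} (hg : g ∈ nb (companion t)) :
    ((g : M₂) 0 0 + t⁻¹) ^ 2 + t * ((g : M₂) 0 0 + t⁻¹) * ((g : M₂) 0 1 + 1) +
      ((g : M₂) 0 1 + 1) ^ 2 = t⁻¹ ^ 2 + 1 := by
  obtain ⟨e1, e2⟩ := nb_companion_coords h2 hg
  have hd := det_char_two h2 g
  rw [e1, e2] at hd
  have hti : t * t⁻¹ = 1 := mul_inv_cancel₀ ht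
  linear_combination hd + ((g : M₂) 0 1 + 1) * hti + ((g : M₂) 0 0 * t⁻¹ + (g : M₂) 0 1 + 1) * h2

/-- At most two common neighbours. -/
theorem card_common_le {t : F} (ht : t ≠ 0) (ht1 : t ≠ 1) {g2 : SL(2, F)} (hg2 : tr g2 = t)
    (hne : g2 ≠ companion t) {u v w : SL(2, F)} (hu : u ∈ nb (companion t) ∧ g2 ∈ nb u)
    (hv : v ∈ nb (companion t) ∧ g2 ∈ nb v) (hw : w ∈ nb (companion t) ∧ g2 ∈ nb w)
    (huv : u ≠ v) (huw : u ≠ w) : v = w := by
  set A := (g2 : M₂) 0 1 + 1 with hA
  set B := (g2 : M₂) 0 1 + (g2 : M₂) 1 0 with hB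
  set C := (g2 : M₂) 0 1 + (g2 : M₂) 1 0 + t * (g2 : M₂) 0 0 with hC
  have hti : t * t⁻¹ = 1 := mul_inv_cancel₀ ht
  have e11 : (g2 : M₂) 1 1 = (g2 : M₂) 0 0 + t := by
    rw [tr] at hg2; linear_combination hg2 - (g2 : M₂) 0 0 * h2
  -- the linear equation
  have hlin : ∀ z : SL(2, F), z ∈ nb (companion t) ∧ g2 ∈ nb z →
      t * A * ((z : M₂) 0 0 + t⁻¹) + B * ((z : M₂) 0 1 + 1) = C := by
    rintro z ⟨hz, hz2⟩
    obtain ⟨e1, e2⟩ := nb_companion_coords h2 hz
    have h := (mem_nb.1 (nb_symm hz2)).2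
    rw [tr_inv_mul h2, e1, e2, e11] at h
    rw [hA, hB, hC]
    linear_combination h + ((g2 : M₂) 0 1 + 1) * hti +
      (-((g2 : M₂) 0 0 * (z : M₂) 0 0) + 1 - t * (g2 : M₂) 0 0) * h2
  have hext : ∀ z z' : SL(2, F), z ∈ nb (companion t) → z' ∈ nb (companion t) →
      (z : M₂) 0 0 = (z' : M₂) 0 0 → (z : M₂) 0 1 = (z' : M₂) 0 1 → z = z' := by
    intro z z' hz hz' e e'
    obtain ⟨a1, a2⟩ := nb_companion_coords h2 hz
    obtain ⟨b1, b2⟩ := nb_companion_coords h2 hz'
    apply Subtype.ext
    ext i j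
    fin_cases i <;> fin_cases j
    · exact e
    · exact e'
    · show (z : M₂) 1 0 = (z' : M₂) 1 0
      rw [a2, b2, e, e']
    · show (z : M₂) 1 1 = (z' : M₂) 1 1
      rw [a1, b1, e]
  have hK : t⁻¹ ^ 2 + 1 ≠ 0 := by
    intro e
    apply ht1
    have : t⁻¹ = 1 := sq_inj h2 (by linear_combination e - h2)
    rwa [inv_eq_one] at this
  -- two solutions of a nondegenerate quadratic
  have hquad : ∀ c L N a a' : F, (c ≠ 0 ∨ L ≠ 0 ∨ N ≠ 0) → c * a ^ 2 + L * a + N = 0 →
      c * a' ^ 2 + L * a' + N = 0 → a ≠ a' → c ≠ 0 ∧ c * (a + a') = L := by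
    intro c L N a a' hnz e e' haa
    have e3 : (a + a') * (c * (a + a') + L) = 0 := by
      linear_combination e + e' + (c * a * a' - N) * h2
    have e4 : c * (a + a') + L = 0 := (mul_eq_zero.1 e3).resolve_left fun e5 =>
      haa (by linear_combination e5 - a' * h2)
    have e6 : c * (a + a') = L := by linear_combination e4 - L * h2
    refine ⟨fun hc => ?_, e6⟩
    rw [hc, zero_mul] at e6
    rw [hc, ← e6, zero_mul, zero_mul, zero_add, zero_add] at e
    rcases hnz with h | h | h
    · exact h hc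
    · exact h e6.symm
    · exact h e
  have cu := nb_companion_conic h2 ht hu.1
  have cv := nb_companion_conic h2 ht hv.1
  have cw := nb_companion_conic h2 ht hw.1
  have lu := hlin u hu
  have lv := hlin v hv
  have lw := hlin w hw
  set au := (u : M₂) 0 0 + t⁻¹ with hau
  set bu := (u : M₂) 0 1 + 1 with hbu
  set av := (v : M₂) 0 0 + t⁻¹ with hav
  set bv := (v : M₂) 0 1 + 1 with hbv
  set aw := (w : M₂) 0 0 + t⁻¹ with haw
  set bw := (w : M₂) 0 1 + 1 with hbw
  by_cases hB0 : B = 0
  · by_cases hA0 : A = 0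
    · exfalso
      rw [hA0, hB0] at lu
      have h01 : (g2 : M₂) 0 1 = 1 := by rw [hA] at hA0; linear_combination hA0 - h2
      have h10 : (g2 : M₂) 1 0 = 1 := by rw [hB] at hB0; linear_combination hB0 - h01 - h2
      have hC0 : C = 0 := by linear_combination -lu
      rw [hC, h01, h10] at hC0
      have h00 : (g2 : M₂) 0 0 = 0 := by
        refine (mul_eq_zero.1 (show t * (g2 : M₂) 0 0 = 0 by linear_combination hC0 - h2)).resolve_left ht
      apply hne
      apply Subtype.ext
      ext i j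
      fin_cases i <;> fin_cases j <;> simp [companion, h01, h10, h00, e11]
      linear_combination h2
    · -- the first coordinate is determined
      rw [hB0, zero_mul, add_zero] at lu lv lw
      have hta : t * A ≠ 0 := mul_ne_zero ht hA0
      have e1 : au = av := mul_left_cancel₀ hta (lu.trans lv.symm)
      have e2 : au = aw := mul_left_cancel₀ hta (lu.trans lw.symm)
      have q : ∀ b : F, au ^ 2 + t * au * b + b ^ 2 = t⁻¹ ^ 2 + 1 →
          (1 : F) * b ^ 2 + (t * au) * b + (au ^ 2 + t⁻¹ ^ 2 + 1) = 0 := fun b e => by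
        linear_combination e + (t⁻¹ ^ 2 + 1) * h2
      have qu := q bu cu
      have qv := q bv (by rw [e1]; exact cv)
      have qw := q bw (by rw [e2]; exact cw)
      have n1 : bu ≠ bv := fun e => huv (hext u v hu.1 hv.1 (add_right_cancel e1) (add_right_cancel e))
      have n2 : bu ≠ bw := fun e => huw (hext u w hu.1 hw.1 (add_right_cancel e2) (add_right_cancel e))
      obtain ⟨-, s1⟩ := hquad 1 _ _ bu bv (Or.inl one_ne_zero) qu qv n1
      obtain ⟨-, s2⟩ := hquad 1 _ _ bu bw (Or.inl one_ne_zero) qu qw n2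
      rw [one_mul] at s1 s2
      exact hext v w hv.1 hw.1 (add_right_cancel (e1.symm.trans e2))
        (add_right_cancel (add_left_cancel (s1.trans s2.symm) : bv = bw))
  · have q : ∀ a b : F, a ^ 2 + t * a * b + b ^ 2 = t⁻¹ ^ 2 + 1 → t * A * a + B * b = C →
        (B ^ 2 + t * (t * A) * B + (t * A) ^ 2) * a ^ 2 + (t * B * C) * a +
          (C ^ 2 + B ^ 2 * (t⁻¹ ^ 2 + 1)) = 0 := fun a b e1 e2 => by
      linear_combination B ^ 2 * e1 - (t * B * a + B * b + C + t * A * a) * e2 +
        (t ^ 2 * A ^ 2 * a ^ 2 + t ^ 2 * A * B * a ^ 2 + t * A * B * a * b + B ^ 2 * (t⁻¹ ^ 2 + 1)) * h2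
    have qu := q au bu cu lu
    have qv := q av bv cv lv
    have qw := q aw bw cw lw
    have det : ∀ a b a' b', t * A * a + B * b = C → t * A * a' + B * b' = C → a = a' → b = b' :=
      fun a b a' b' e e' ea => mul_left_cancel₀ hB0 (by subst ea; linear_combination e - e')
    have n1 : au ≠ av := fun e => huv (hext u v hu.1 hv.1 (add_right_cancel e)
      (add_right_cancel (det _ _ _ _ lu lv e)))
    have n2 : au ≠ aw := fun e => huw (hext u w hu.1 hw.1 (add_right_cancel e)
      (add_right_cancel (det _ _ _ _ lu lw e)))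
    have hnz : (B ^ 2 + t * (t * A) * B + (t * A) ^ 2) ≠ 0 ∨ (t * B * C) ≠ 0 ∨
        (C ^ 2 + B ^ 2 * (t⁻¹ ^ 2 + 1)) ≠ 0 := by
      by_contra hc
      simp only [not_or, not_not] at hc
      obtain ⟨-, hc2, hc3⟩ := hc
      have hC0 : C = 0 := (mul_eq_zero.1 hc2).resolve_left (mul_ne_zero ht hB0)
      rw [hC0] at hc3
      have h7 : B ^ 2 * (t⁻¹ ^ 2 + 1) = 0 := by linear_combination hc3
      exact (mul_eq_zero.1 h7).elim (fun e => hB0 ((sq_eq_zero_iff).1 e)) hK
    obtain ⟨hc, s1⟩ := hquad _ _ _ au av hnz qu qv n1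
    obtain ⟨-, s2⟩ := hquad _ _ _ au aw hnz qu qw n2
    have e := add_left_cancel (mul_left_cancel₀ hc (s1.trans s2.symm))
    exact hext v w hv.1 hw.1 (add_right_cancel e) (add_right_cancel (det _ _ _ _ lv lw e))

/-- The number of neighbours. -/
theorem card_nb_ge {t : F} (ht : t ≠ 0) (ht1 : t ≠ 1) :
    Fintype.card F ≤ (nb (companion t)).card + 1 ∧
      (Fintype.card F = 4 → 5 ≤ (nb (companion t)).card) := by
  classical
  have hti : t * t⁻¹ = 1 := mul_inv_cancel₀ ht
  set a₀ := 1 + t⁻¹ with ha₀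
  set b₀ := t + 1 with hb₀
  have hb0 : b₀ ≠ 0 := fun e => ht1 (by rw [hb₀] at e; linear_combination e - h2)
  let S : Finset F := Finset.univ.filter fun m => 1 + t * m + m ^ 2 ≠ 0
  let P : Option F → F × F := fun o => match o with
    | none => (a₀, 0)
    | some m => (a₀ + t * (b₀ + m * a₀) / (1 + t * m + m ^ 2),
        b₀ + m * (t * (b₀ + m * a₀) / (1 + t * m + m ^ 2)))
  let O : Finset (Option F) := insert none (S.image some)
  have hon : ∀ o ∈ O, (P o).1 ^ 2 + t * (P o).1 * (P o).2 + (P o).2 ^ 2 = t⁻¹ ^ 2 + 1 := by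
    intro o ho
    simp only [O, Finset.mem_insert, Finset.mem_image] at ho
    rcases ho with rfl | ⟨m, hm, rfl⟩
    · show a₀ ^ 2 + t * a₀ * 0 + 0 ^ 2 = _
      rw [ha₀]; linear_combination t⁻¹ * h2
    · have hm' : 1 + t * m + m ^ 2 ≠ 0 := (Finset.mem_filter.1 hm).2
      set s := t * (b₀ + m * a₀) / (1 + t * m + m ^ 2) with hs
      have hsd : s * (1 + t * m + m ^ 2) = t * (b₀ + m * a₀) := div_mul_cancel₀ _ hm'
      show (a₀ + s) ^ 2 + t * (a₀ + s) * (b₀ + m * s) + (b₀ + m * s) ^ 2 = _
      have base : a₀ ^ 2 + t * a₀ * b₀ + b₀ ^ 2 = t⁻¹ ^ 2 + 1 := by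
        rw [ha₀, hb₀]
        linear_combination (t + 1) * hti + (t⁻¹ + t ^ 2 + 2 * t + 1) * h2
      linear_combination base + s * hsd + (a₀ * s + b₀ * m * s + t * s * (b₀ + m * a₀)) * h2
  let mkel : {o // o ∈ O} → SL(2, F) := fun o =>
    ⟨!![(P o.1).1 + t⁻¹, (P o.1).2 + 1; 1 + ((P o.1).2 + 1) + t * ((P o.1).1 + t⁻¹),
      (P o.1).1 + t⁻¹ + t], by
      have h := hon o.1 o.2
      rw [det_fin_two_of]
      linear_combination h + ((P o.1).2 + 1 - 2 * ((P o.1).2 + 1) - 1) * hti +
        ((P o.1).1 * t + t * t⁻¹ * (P o.1).2 + 2 * (t * t⁻¹) +- (1 + ((P o.1).2 + 1) + t * ((P o.1).1 + t⁻¹)) * ((P o.1).2 + 1) + (P o.1).1 * t⁻¹ +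
          t⁻¹ ^ 2 + (P o.1).2) * h2⟩
  have hmem : ∀ o, mkel o ∈ nb (companion t) := by
    intro o
    rw [mem_nb, tr_companion, tr_inv_mul h2]
    constructor
    · simp [tr, mkel]; linear_combination ((P o.1).1 + t⁻¹) * h2
    · simp [mkel, companion]
      linear_combination (t * ((P o.1).1 + t⁻¹) - 1 - t * (P o.1).1 - t * t⁻¹) * h2
  have hinj : Function.Injective mkel := by
    intro o o' e
    have e1 := congrArg (fun g : SL(2, F) => (g : M₂) 0 0) e
    have e2 := congrArg (fun g : SL(2, F) => (g : M₂) 0 1) e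
    simp [mkel] at e1 e2
    have hz : ∀ m : F, m ∈ S → t * (b₀ + m * a₀) / (1 + t * m + m ^ 2) = 0 → m = t := by
      intro m hm e0
      have hm' : 1 + t * m + m ^ 2 ≠ 0 := (Finset.mem_filter.1 hm).2
      have h3 : b₀ + m * a₀ = 0 :=
        (mul_eq_zero.1 ((div_eq_zero_iff.1 e0).resolve_right hm')).resolve_left ht
      have h4 : (t + 1) * (m + t) = 0 := by
        rw [hb₀, ha₀] at h3
        linear_combination t * h3 - m * hti
      have := (mul_eq_zero.1 h4).resolve_left hb0
      linear_combination this - t * h2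
    obtain ⟨o, ho⟩ := o
    obtain ⟨o', ho'⟩ := o'
    simp only [O, Finset.mem_insert, Finset.mem_image] at ho ho'
    refine Subtype.ext ?_
    rcases ho with rfl | ⟨m, hm, rfl⟩ <;> rcases ho' with rfl | ⟨m', hm', rfl⟩ <;> simp only [P] at e1 e2
    · rfl
    · exfalso
      have h0 := left_eq_add.1 e1
      have hmt := hz m' hm' h0
      rw [h0, mul_zero, add_zero] at e2
      exact hb0 e2.symm
    · exfalso
      have h0 := add_eq_left.1 e1
      rw [h0, mul_zero, add_zero] at e2
      exact hb0 e2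
    · have hs := add_left_cancel e1
      rw [← hs] at e2
      have h5 := add_left_cancel e2
      by_cases h0 : t * (b₀ + m * a₀) / (1 + t * m + m ^ 2) = 0
      · obtain rfl : m = m' := (hz m hm h0).trans (hz m' hm' (hs ▸ h0)).symm
        rfl
      · obtain rfl : m = m' := mul_right_cancel₀ h0 h5
        rfl
  have hcard : O.card ≤ (nb (companion t)).card := by
    rw [← Fintype.card_coe O]
    exact le_trans (le_of_eq (Finset.card_univ).symm)
      (Finset.card_le_card_of_injOn mkel (fun o _ => hmem o) hinj.injOn)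
  have hO : O.card = S.card + 1 := by
    rw [Finset.card_insert_of_notMem (by simp), Finset.card_image_of_injective _ (Option.some_injective F)]
  have hcompl : ∀ m m' : F, m ∉ S → m' ∉ S → m ≠ m' → m + m' = t := by
    intro m m' hm hm' hne
    simp [S] at hm hm'
    have e : (m + m') * (m + m' + t) = 0 := by linear_combination hm + hm' + (m * m' - 1) * h2
    have := (mul_eq_zero.1 e).resolve_left fun e' => hne (by linear_combination e' - m' * h2)
    linear_combination this - t * h2
  have hS : Fintype.card F ≤ S.card + 2 := by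
    rw [← Finset.card_add_card_compl S]
    refine Nat.add_le_add_left ?_ _
    by_cases hne : Sᶜ = ∅
    · rw [hne]; simp
    obtain ⟨m₀, hm₀⟩ := Finset.nonempty_iff_ne_empty.2 hne
    refine le_trans (Finset.card_le_card (t := {m₀, m₀ + t}) fun m hm => ?_) Finset.card_le_two
    rw [Finset.mem_compl] at hm hm₀
    by_cases e : m = m₀
    · simp [e]
    · have := hcompl m m₀ hm hm₀ e
      simp only [Finset.mem_insert, Finset.mem_singleton]
      exact Or.inr (by linear_combination this - m₀ * h2)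
  refine ⟨by omega, fun h4 => ?_⟩
  have hSu : S = Finset.univ := by
    refine Finset.eq_univ_of_forall fun m => Finset.mem_filter.2 ⟨Finset.mem_univ _, fun e => ?_⟩
    have hm4 : m ^ 4 = m := h4 ▸ FiniteField.pow_card m
    have ht4 : t ^ 4 = t := h4 ▸ FiniteField.pow_card t
    have htw : t ^ 2 + t + 1 = 0 := by
      have h6 : (t * (t - 1)) * (t ^ 2 + t + 1) = 0 := by linear_combination ht4
      exact (mul_eq_zero.1 h6).resolve_left (mul_ne_zero ht (sub_ne_zero.2 ht1))
    rcases eq_or_ne m 0 with hm | hm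
    · rw [hm] at e; simp at e
    rcases eq_or_ne m 1 with hm1 | hm1
    · rw [hm1] at e; exact ht (by linear_combination e - h2)
    have hmw : m ^ 2 + m + 1 = 0 := by
      have h6 : (m * (m - 1)) * (m ^ 2 + m + 1) = 0 := by linear_combination hm4
      exact (mul_eq_zero.1 h6).resolve_left (mul_ne_zero hm (sub_ne_zero.2 hm1))
    have : (t - 1) * m = 0 := by linear_combination e - hmw
    exact (mul_eq_zero.1 this).elim (fun h' => ht1 (sub_eq_zero.1 h')) hm
  have : S.card = 4 := by rw [hSu, Finset.card_univ, h4]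
  omega

/-- The size of a class. -/
theorem card_class_le (t : F) (C : Finset (SL(2, F))) (hC : ∀ g ∈ C, tr g = t) :
    C.card ≤ Fintype.card F ^ 2 + Fintype.card F := by
  classical
  let p₀ : F := if h : ∃ p : F, p * (p + t) = 1 then h.choose else 0
  have hp : ∀ p : F, p * (p + t) = 1 → p = p₀ ∨ p = p₀ + t := by
    intro p hp
    have hp0 : p₀ * (p₀ + t) = 1 := by
      simp only [p₀, dif_pos (⟨p, hp⟩ : ∃ p : F, p * (p + t) = 1)]
      exact (⟨p, hp⟩ : ∃ p : F, p * (p + t) = 1).choose_spec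
    have e : (p + p₀) * (p + p₀ + t) = 0 := by linear_combination hp + hp0 + (p * p₀ + 1) * h2
    rcases mul_eq_zero.1 e with e' | e'
    · left; linear_combination e' - p₀ * h2
    · right; linear_combination e' - (p₀ + t) * h2
  let f : SL(2, F) → (F × F) ⊕ F := fun g =>
    if (g : M₂) 0 1 ≠ 0 then .inl ((g : M₂) 0 0, (g : M₂) 0 1)
    else if (g : M₂) 0 0 = p₀ then .inl ((g : M₂) 1 0, 0) else .inr ((g : M₂) 1 0)
  have hinj : Set.InjOn f C := by
    intro g hg g' hg' e
    have t1 := hC g hg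
    have t2 := hC g' hg'
    have d1 := det_char_two h2 g
    have d2 := det_char_two h2 g'
    rw [tr] at t1 t2
    have a1 : (g : M₂) 1 1 = (g : M₂) 0 0 + t := by linear_combination t1 - (g : M₂) 0 0 * h2
    have a2 : (g' : M₂) 1 1 = (g' : M₂) 0 0 + t := by linear_combination t2 - (g' : M₂) 0 0 * h2
    rw [a1] at d1
    rw [a2] at d2
    suffices h : (g : M₂) 0 0 = (g' : M₂) 0 0 ∧ (g : M₂) 0 1 = (g' : M₂) 0 1 ∧
        (g : M₂) 1 0 = (g' : M₂) 1 0 by
      apply Subtype.ext
      ext i j
      fin_cases i <;> fin_cases j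
      · exact h.1
      · exact h.2.1
      · exact h.2.2
      · show (g : M₂) 1 1 = (g' : M₂) 1 1
        rw [a1, a2, h.1]
    by_cases hq : (g : M₂) 0 1 = 0 <;> by_cases hq' : (g' : M₂) 0 1 = 0
    · rw [hq, zero_mul, add_zero] at d1
      rw [hq', zero_mul, add_zero] at d2
      rw [hq, hq']
      simp only [f, hq, hq', ne_eq, not_true_eq_false, if_false] at e
      by_cases hp1 : (g : M₂) 0 0 = p₀ <;> by_cases hp2 : (g' : M₂) 0 0 = p₀
      · rw [if_pos hp1, if_pos hp2] at e
        simp at e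
        exact ⟨hp1.trans hp2.symm, rfl, e⟩
      · rw [if_pos hp1, if_neg hp2] at e; simp at e
      · rw [if_neg hp1, if_pos hp2] at e; simp at e
      · rw [if_neg hp1, if_neg hp2] at e
        simp at e
        exact ⟨((hp _ d1).resolve_left hp1).trans ((hp _ d2).resolve_left hp2).symm, rfl, e⟩
    · simp only [f, hq, hq', ne_eq, not_true_eq_false, not_false_eq_true, if_true, if_false] at e
      split_ifs at e
      simp at e
      exact absurd e.2.symm hq'
    · simp only [f, hq, hq', ne_eq, not_true_eq_false, not_false_eq_true, if_true, if_false] at e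
      split_ifs at e
      simp at e
      exact absurd e.2 hq
    · simp only [f, hq, hq', ne_eq, not_false_eq_true, if_true] at e
      simp at e
      refine ⟨e.1, e.2, ?_⟩
      rw [e.1, e.2] at d1
      exact mul_left_cancel₀ hq' (by linear_combination d1 - d2)
  calc C.card ≤ (Finset.univ : Finset ((F × F) ⊕ F)).card :=
        Finset.card_le_card_of_injOn f (fun g _ => Finset.mem_univ _) hinj
    _ = _ := by rw [Finset.card_univ, Fintype.card_sum, Fintype.card_prod, sq]

omit h2

/-- A subgroup containing everything that conjugates `h` into `M` has index at most `|C| / |M|`. -/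
theorem index_mul_card_le {G : Type*} [Group G] [Fintype G] [DecidableEq G] (K : Subgroup G) (h : G)
    (M C : Finset G) (hM : ∀ m ∈ M, ∃ c, c * h * c⁻¹ = m) (hK : ∀ c, c * h * c⁻¹ ∈ M → c ∈ K)
    (hC : ∀ c, c * h * c⁻¹ ∈ C) : K.index * M.card ≤ C.card := by
  classical
  set z := (Finset.univ.filter fun c => c * h * c⁻¹ = h).card with hz
  have hzpos : 0 < z := Finset.card_pos.2 ⟨1, by simp⟩
  have hfib : ∀ m : G, (∃ c, c * h * c⁻¹ = m) →
      (Finset.univ.filter fun c => c * h * c⁻¹ = m).card = z := by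
    rintro m ⟨c₀, rfl⟩
    refine Finset.card_bij (fun c _ => c₀⁻¹ * c) ?_ ?_ ?_
    · intro c hc
      simp only [Finset.mem_filter, Finset.mem_univ, true_and] at hc ⊢
      calc c₀⁻¹ * c * h * (c₀⁻¹ * c)⁻¹ = c₀⁻¹ * (c * h * c⁻¹) * c₀ := by group
        _ = h := by rw [hc]; group
    · intro a _ b _ e; exact mul_left_cancel e
    · intro c hc
      simp only [Finset.mem_filter, Finset.mem_univ, true_and] at hc
      refine ⟨c₀ * c, ?_, by group⟩
      simp only [Finset.mem_filter, Finset.mem_univ, true_and]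
      calc c₀ * c * h * (c₀ * c)⁻¹ = c₀ * (c * h * c⁻¹) * c₀⁻¹ := by group
        _ = _ := by rw [hc]
  have h1 : M.card * z ≤ Nat.card K := by
    calc M.card * z = ∑ m ∈ M, (Finset.univ.filter fun c => c * h * c⁻¹ = m).card := by
          rw [Finset.sum_congr rfl (fun m hm => hfib m (hM m hm)), Finset.sum_const, smul_eq_mul]
      _ = (Finset.univ.filter fun c => c * h * c⁻¹ ∈ M).card := by
          rw [← Finset.card_biUnion]
          · congr 1; ext c; simp
          · intro a _ b _ hab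
            simp only [Function.onFun, Finset.disjoint_left, Finset.mem_filter]
            rintro c ⟨-, ha⟩ ⟨-, hb⟩
            exact hab (ha.symm.trans hb)
      _ ≤ (Finset.univ.filter fun c => c ∈ K).card := by
          refine Finset.card_le_card fun c hc => ?_
          simp only [Finset.mem_filter, Finset.mem_univ, true_and] at hc ⊢
          exact hK c hc
      _ = Nat.card K := by rw [Nat.card_eq_fintype_card, Fintype.card_subtype]
  have h3 : Nat.card G ≤ C.card * z := by
    rw [Nat.card_eq_fintype_card, ← Finset.card_univ]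
    calc (Finset.univ : Finset G).card
        = ∑ m ∈ C, (Finset.univ.filter fun c => c * h * c⁻¹ = m).card :=
          Finset.card_eq_sum_card_fiberwise fun c _ => hC c
      _ ≤ ∑ _m ∈ C, z := Finset.sum_le_sum fun m _ => by
          by_cases hm : ∃ c, c * h * c⁻¹ = m
          · exact le_of_eq (hfib m hm)
          · rw [Finset.filter_eq_empty_iff.2 fun c _ e => hm ⟨c, e⟩]; simp
      _ = C.card * z := by rw [Finset.sum_const, smul_eq_mul]
  refine Nat.le_of_mul_le_mul_right ?_ hzpos
  calc K.index * M.card * z = K.index * (M.card * z) := mul_assoc _ _ _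
    _ ≤ K.index * Nat.card K := Nat.mul_le_mul_left _ h1
    _ = Nat.card G := by rw [mul_comm, Subgroup.card_mul_index]
    _ ≤ C.card * z := h3

/-- A perfect group has no proper subgroup of index at most three. -/
theorem eq_top_of_index_le_three {G : Type*} [Group G] [Finite G] (hG : commutator G = ⊤)
    {K : Subgroup G} (hK : K.index ≤ 3) : K = ⊤ := by
  classical
  haveI : Fintype (G ⧸ K) := Fintype.ofFinite _
  have hcard : Fintype.card (G ⧸ K) ≤ 3 := by
    rw [← Nat.card_eq_fintype_card]; exact hK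
  let φ : G →* Equiv.Perm (G ⧸ K) := MulAction.toPermHom G (G ⧸ K)
  have hsign : ∀ g, Equiv.Perm.sign (φ g) = 1 := by
    have : commutator G ≤ (Equiv.Perm.sign.comp φ).ker :=
      Abelianization.commutator_subset_ker _
    intro g
    exact this (hG ▸ Subgroup.mem_top g)
  have hcomm : ∀ a b : G, φ a * φ b = φ b * φ a := by
    intro a b
    have ha : φ a ∈ alternatingGroup (G ⧸ K) := hsign a
    have hb : φ b ∈ alternatingGroup (G ⧸ K) := hsign b
    have hA : ∀ x y : alternatingGroup (G ⧸ K), x * y = y * x := by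
      rcases Nat.lt_or_ge (Fintype.card (G ⧸ K)) 2 with hlt | hge
      · haveI : Subsingleton (G ⧸ K) := Fintype.card_le_one_iff_subsingleton.1 (by omega)
        intro x y
        exact Subtype.ext (Subsingleton.elim _ _)
      · haveI : Nontrivial (G ⧸ K) := Fintype.one_lt_card_iff_nontrivial.1 hge
        have hc := two_mul_card_alternatingGroup (α := G ⧸ K)
        rw [Fintype.card_perm] at hc
        intro x y
        interval_cases hh : Fintype.card (G ⧸ K)
        · rw [show (2 : ℕ).factorial = 2 from rfl] at hc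
          haveI : Subsingleton (alternatingGroup (G ⧸ K)) :=
            Fintype.card_le_one_iff_subsingleton.1 (by omega)
          exact Subsingleton.elim _ _
        · rw [show (3 : ℕ).factorial = 6 from rfl] at hc
          haveI : Fact (Nat.Prime 3) := ⟨Nat.prime_three⟩
          haveI := isCyclic_of_prime_card (α := alternatingGroup (G ⧸ K)) (p := 3)
            (by rw [Nat.card_eq_fintype_card]; omega)
          exact IsCyclic.isMulCommutative.is_comm.comm x y
    exact congrArg Subtype.val (hA ⟨_, ha⟩ ⟨_, hb⟩)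
  have htriv : commutator G ≤ φ.ker := by
    rw [commutator_def, Subgroup.commutator_le]
    intro a _ b _
    rw [MonoidHom.mem_ker, commutatorElement_def, map_mul, map_mul, map_mul, map_inv, map_inv, hcomm]
    group
  refine eq_top_iff.2 fun g _ => ?_
  have h1 : φ g = 1 := htriv (hG ▸ Subgroup.mem_top g)
  have := Equiv.congr_fun h1 ((1 : G) : G ⧸ K)
  simp only [φ, MulAction.toPermHom_apply, MulAction.toPerm_apply, Equiv.Perm.one_apply,
    MulAction.Quotient.smul_mk, smul_eq_mul, mul_one] at this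
  simpa using QuotientGroup.eq.1 this

end CfsgLib.SL2.FpfThree
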